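import Cfsg.Agent.H417.EP.AEightA
import Cfsg.Agent.H419.EP.Soc

/-!
# S3499 (IV-L), `soc(A) = A₈` (helper417)

`EPT A Γ` with socle `A₈`: `|Q : A| ≤ 10607 ^ 2 ≤ 122000000`.
-/

set_option autoImplicit false

namespace Cfsg.Agent.H417.EP

open Cfsg.Agent.H839.EP

namespace A8

open Subgroup Equiv Equiv.Perm MulAction

/-! ### The embedding of `S_n` in `S_{n+1}` -/

section iota

variable {n : ℕ}

/-- the embedding of `S_n` in `S_{n+1}`, fixing `0` -/
noncomputable def iota : Perm (Fin n) →* Perm (Fin (n + 1)) := extendDomainHom (finSuccAboveEquiv (0 : Fin (n + 1)))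

theorem iota_succ (d : Perm (Fin n)) (j : Fin n) : iota d j.succ = (d j).succ := by
  have h := extendDomain_apply_image d (finSuccAboveEquiv (0 : Fin (n + 1))) j
  simp only [finSuccAboveEquiv_apply, Fin.zero_succAbove] at h
  exact h

theorem iota_zero (d : Perm (Fin n)) : iota d 0 = 0 :=
  extendDomain_apply_not_subtype d (finSuccAboveEquiv (0 : Fin (n + 1))) (by simp)

theorem iota_inj : Function.Injective (iota (n := n)) := extendDomainHom_injective _

theorem exists_iota {g : Perm (Fin (n + 1))} (h : g 0 = 0) : ∃ d, iota d = g := by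
  have hne : ∀ j : Fin n, g j.succ ≠ 0 := by
    intro j hj
    rw [← h] at hj
    exact Fin.succ_ne_zero j (g.injective hj)
  let f : Fin n → Fin n := fun j => (g j.succ).pred (hne j)
  have hf : Function.Injective f := by
    intro i j hij
    have := Fin.pred_inj.1 hij
    exact Fin.succ_injective _ (g.injective this)
  refine ⟨Equiv.ofBijective f (Finite.injective_iff_bijective.1 hf), ?_⟩
  ext i
  congr 1
  induction i using Fin.cases with
  | zero => rw [iota_zero, h]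
  | succ j =>
    rw [iota_succ]
    show (f j).succ = _
    exact Fin.succ_pred _ _

theorem iota_mem_alt {d : Perm (Fin n)} : iota d ∈ alternatingGroup (Fin (n + 1)) ↔ d ∈ alternatingGroup (Fin n) := by
  rw [mem_alternatingGroup, mem_alternatingGroup]
  have : sign (iota d) = sign d := sign_extendDomain d (finSuccAboveEquiv (0 : Fin (n + 1)))
  rw [this]

end iota

theorem card_trans {M : Subgroup (Perm (Fin 8))} (h : IsPretransitive M (Fin 8)) :
    Nat.card M = 8 * Nat.card (M.comap iota) := by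
  have h1 := index_stabilizer_of_transitive M (0 : Fin 8)
  rw [Nat.card_fin] at h1
  have h2 := (stabilizer M (0 : Fin 8)).index_mul_card
  rw [h1] at h2
  rw [← h2]
  congr 1
  symm
  refine Nat.card_congr (Equiv.ofBijective
    (fun d : M.comap iota => (⟨⟨iota (d : Perm (Fin 7)), d.2⟩, iota_zero _⟩ : stabilizer M (0 : Fin 8))) ⟨?_, ?_⟩)
  · intro a b hab
    apply Subtype.ext
    apply iota_inj
    exact congrArg (fun x : stabilizer M (0 : Fin 8) => ((x : M) : Perm (Fin 8))) hab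
  · rintro ⟨⟨g, hg⟩, h0⟩
    obtain ⟨d, hd⟩ := exists_iota (g := g) h0
    refine ⟨⟨d, by rw [mem_comap, hd]; exact hg⟩, ?_⟩
    apply Subtype.ext
    apply Subtype.ext
    exact hd

theorem trans_aux {K : Subgroup (Perm (Fin 8))} {D : Subgroup (Perm (Fin 7))} (hD : IsPretransitive D (Fin 7))
    (hDK : D.map iota ≤ K) {t : Perm (Fin 8)} (ht : t ∈ K) (h0 : t 0 ≠ 0) : IsPretransitive K (Fin 8) := by
  obtain ⟨k, hk⟩ := Fin.exists_succ_eq.2 h0
  have key : ∀ i : Fin 8, ∃ g ∈ K, g 0 = i := by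
    intro i
    rcases Fin.eq_zero_or_eq_succ i with h1 | ⟨j, h1⟩
    · exact ⟨1, one_mem _, h1.symm⟩
    · obtain ⟨d, hd⟩ := hD.exists_smul_eq k j
      have hd' : (d : Perm (Fin 7)) k = j := hd
      refine ⟨iota (d : Perm (Fin 7)) * t, K.mul_mem (hDK ⟨(d : Perm (Fin 7)), d.2, rfl⟩) ht, ?_⟩
      rw [h1, Perm.mul_apply, ← hk, iota_succ, hd']
  refine ⟨fun i j => ?_⟩
  obtain ⟨g, hg, rfl⟩ := key i
  obtain ⟨h, hh, rfl⟩ := key j
  refine ⟨⟨h * g⁻¹, K.mul_mem hh (K.inv_mem hg)⟩, ?_⟩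
  show (h * g⁻¹) (g 0) = h 0
  simp

/-- the group generated by `D` (fixing `0`) and `t` -/
def gen (D : Subgroup (Perm (Fin 7))) (t : Perm (Fin 8)) : Subgroup (Perm (Fin 8)) :=
  closure ((D.map iota : Subgroup (Perm (Fin 8))) ∪ {t} : Set (Perm (Fin 8)))

theorem eq_gen {M : Subgroup (Perm (Fin 8))} (hM : IsPretransitive M (Fin 8)) (h7 : 7 ∣ Nat.card (M.comap iota))
    {t : Perm (Fin 8)} (ht : t ∈ M) (h0 : t 0 ≠ 0) : M = gen (M.comap iota) t := by
  have h1 : (M.comap iota).map iota ≤ gen (M.comap iota) t := fun x hx => subset_closure (Or.inl hx)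
  have h2 : t ∈ gen (M.comap iota) t := subset_closure (Or.inr rfl)
  have h3 := trans_aux (Cfsg.Agent.H220.EP.pretrans h7) h1 h2 h0
  have h4 := card_trans h3
  have h5 := card_trans hM
  have h6 : M.comap iota ≤ (gen (M.comap iota) t).comap iota := fun d hd => h1 ⟨d, hd, rfl⟩
  have h7' : gen (M.comap iota) t ≤ M := by
    rw [gen, closure_le]
    rintro x (hx | hx)
    · exact map_comap_le _ _ hx
    · rw [Set.mem_singleton_iff] at hx
      rw [hx]
      exact ht
  symm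
  refine Subgroup.eq_of_le_of_card_ge h7' ?_
  rw [h4, h5]
  exact Nat.mul_le_mul_left 8 (Subgroup.card_le_of_le h6)

theorem exists_swap {M : Subgroup (Perm (Fin 8))} (hM : IsPretransitive M (Fin 8)) (h7 : 7 ∣ Nat.card (M.comap iota)) :
    ∃ t ∈ M, t 0 = 1 ∧ t 1 = 0 := by
  obtain ⟨g, hg⟩ := hM.exists_smul_eq (1 : Fin 8) 0
  have hg1 : (g : Perm (Fin 8)) 1 = 0 := hg
  have hg0 : (g : Perm (Fin 8)) 0 ≠ 0 := by
    intro h
    have h2 : (0 : Fin 8) = 1 := (g : Perm (Fin 8)).injective (h.trans hg1.symm)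
    exact absurd h2 (by decide)
  obtain ⟨k, hk⟩ := Fin.exists_succ_eq.2 hg0
  obtain ⟨d, hd⟩ := (Cfsg.Agent.H220.EP.pretrans h7).exists_smul_eq k 0
  have hd' : (d : Perm (Fin 7)) k = 0 := hd
  refine ⟨iota (d : Perm (Fin 7)) * g, M.mul_mem d.2 g.2, ?_, ?_⟩
  · rw [Perm.mul_apply, ← hk, iota_succ, hd']
    rfl
  · rw [Perm.mul_apply, hg1, iota_zero]

/-- the fixed point free involutions moving `0` to `1` -/
def S15 : Set (Perm (Fin 8)) := {s | s * s = 1 ∧ (∀ i, s i ≠ i) ∧ s 0 = 1}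

theorem exists_S15 {M : Subgroup (Perm (Fin 8))} (hM : IsPretransitive M (Fin 8)) (h7 : 7 ∣ Nat.card (M.comap iota))
    (hodd : Odd (Nat.card (M.comap iota))) : ∃ s ∈ M, s ∈ S15 := by
  obtain ⟨t, ht, h0, h1⟩ := exists_swap hM h7
  obtain ⟨d, hd⟩ := exists_iota (g := t * t) (by rw [Perm.mul_apply, h0, h1])
  have hdM : d ∈ M.comap iota := by
    rw [mem_comap, hd]
    exact M.mul_mem ht ht
  have hpow : ∀ x ∈ M.comap iota, x ^ Nat.card (M.comap iota) = 1 := by
    intro x hx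
    exact congrArg Subtype.val (pow_card_eq_one' (x := (⟨x, hx⟩ : M.comap iota)))
  obtain ⟨k, hk⟩ := hodd
  set m := Nat.card (M.comap iota) with hm
  have hss : t ^ m * t ^ m = 1 := by
    rw [← pow_add, ← two_mul, pow_mul, pow_two, ← hd, ← map_pow, hpow d hdM, map_one]
  have hs0 : (t ^ m) 0 = 1 := by
    rw [hk, pow_succ', pow_mul, pow_two, ← hd, ← map_pow, Perm.mul_apply, iota_zero, h0]
  refine ⟨t ^ m, M.pow_mem ht _, hss, ?_, hs0⟩
  intro i hi
  obtain ⟨g, hg⟩ := hM.exists_smul_eq (0 : Fin 8) i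
  have hg' : (g : Perm (Fin 8)) 0 = i := hg
  obtain ⟨d', hd'⟩ := exists_iota (g := (g : Perm (Fin 8))⁻¹ * t ^ m * (g : Perm (Fin 8))) (by
    rw [Perm.mul_apply, Perm.mul_apply, hg', hi, ← hg']
    exact (g : Perm (Fin 8)).symm_apply_apply 0)
  have h2 : d' ∈ M.comap iota := by
    rw [mem_comap, hd']
    exact M.mul_mem (M.mul_mem (M.inv_mem g.2) (M.pow_mem ht _)) g.2
  have h3 : d' * d' = 1 := by
    apply iota_inj
    rw [map_mul, hd', map_one]
    have e1 : (g : Perm (Fin 8))⁻¹ * t ^ m * g * ((g : Perm (Fin 8))⁻¹ * t ^ m * g) =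
        (g : Perm (Fin 8))⁻¹ * (t ^ m * t ^ m) * g := by group
    rw [e1, hss, mul_one, inv_mul_cancel]
  have h4 : d' = 1 := by
    have h5 := hpow d' h2
    rw [hk, pow_succ, pow_mul, pow_two, h3, one_pow, one_mul] at h5
    exact h5
  rw [h4, map_one] at hd'
  have h5 : t ^ m = 1 := by
    have e1 : t ^ m = g * ((g : Perm (Fin 8))⁻¹ * t ^ m * g) * (g : Perm (Fin 8))⁻¹ := by group
    rw [e1, ← hd', mul_one, mul_inv_cancel]
  rw [h5, Perm.one_apply] at hs0
  exact absurd hs0 (by decide)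

/-! ### counting -/

/-- the codes of the elements of `S15` -/
def LL : List (List (Fin 8)) :=
  [[3, 2, 5, 4, 7, 6], [3, 2, 6, 7, 4, 5], [3, 2, 7, 6, 5, 4], [4, 5, 2, 3, 7, 6], [4, 6, 2, 7, 3, 5], [4, 7, 2, 6, 5, 3], [5, 4, 3, 2, 7, 6],
      [5, 6, 7, 2, 3, 4], [5, 7, 6, 2, 4, 3], [6, 4, 3, 7, 2, 5], [6, 5, 7, 3, 2, 4], [6, 7, 5, 4, 2, 3], [7, 4, 3, 6, 5, 2], [7, 5, 6, 3, 4, 2], [7, 6, 5, 4, 3, 2]]

set_option synthInstance.maxHeartbeats 1000000 in
set_option synthInstance.maxSize 10000 in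
/-- the codes of the elements of `S15` -/
theorem codes : ∀ a2 : Fin 8, (a2 ≠ 0 ∧ a2 ≠ 1 ∧ a2 ≠ 2) → ∀ a3 : Fin 8, (a3 ≠ 0 ∧ a3 ≠ 1 ∧ a3 ≠ 3 ∧ a3 ≠ a2 ∧ (a2 = 3 ↔ a3 = 2)) →
    ∀ a4 : Fin 8, (a4 ≠ 0 ∧ a4 ≠ 1 ∧ a4 ≠ 4 ∧ a4 ≠ a2 ∧ a4 ≠ a3 ∧ (a2 = 4 ↔ a4 = 2) ∧ (a3 = 4 ↔ a4 = 3)) →
    ∀ a5 : Fin 8, (a5 ≠ 0 ∧ a5 ≠ 1 ∧ a5 ≠ 5 ∧ a5 ≠ a2 ∧ a5 ≠ a3 ∧ a5 ≠ a4 ∧ (a2 = 5 ↔ a5 = 2) ∧ (a3 = 5 ↔ a5 = 3) ∧
      (a4 = 5 ↔ a5 = 4)) →
    ∀ a6 : Fin 8, (a6 ≠ 0 ∧ a6 ≠ 1 ∧ a6 ≠ 6 ∧ a6 ≠ a2 ∧ a6 ≠ a3 ∧ a6 ≠ a4 ∧ a6 ≠ a5 ∧ (a2 = 6 ↔ a6 = 2) ∧ (a3 = 6 ↔ a6 = 3) ∧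
      (a4 = 6 ↔ a6 = 4) ∧ (a5 = 6 ↔ a6 = 5)) →
    ∀ a7 : Fin 8, (a7 ≠ 0 ∧ a7 ≠ 1 ∧ a7 ≠ 7 ∧ a7 ≠ a2 ∧ a7 ≠ a3 ∧ a7 ≠ a4 ∧ a7 ≠ a5 ∧ a7 ≠ a6 ∧ (a2 = 7 ↔ a7 = 2) ∧
      (a3 = 7 ↔ a7 = 3) ∧ (a4 = 7 ↔ a7 = 4) ∧ (a5 = 7 ↔ a7 = 5) ∧ (a6 = 7 ↔ a7 = 6)) →
    [a2, a3, a4, a5, a6, a7] ∈ LL := by
  decide

theorem ncard_S15 : S15.ncard ≤ 15 := by
  have hLL : ((LL.toFinset : Finset (List (Fin 8))) : Set (List (Fin 8))).ncard = 15 := by
    rw [Set.ncard_coe_finset]
    decide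
  rw [← hLL]
  refine Set.ncard_le_ncard_of_injOn (fun s : Perm (Fin 8) => [s 2, s 3, s 4, s 5, s 6, s 7]) ?_ ?_ (Set.toFinite _)
  · rintro s ⟨h1, h2, h3⟩
    have h4 : s 1 = 0 := by
      rw [← h3, ← Perm.mul_apply, h1, Perm.one_apply]
    have hne : ∀ i j, i ≠ j → s i ≠ s j := fun i j hij e => hij (s.injective e)
    have hinv : ∀ i j, s i = j ↔ s j = i := by
      intro i j
      constructor
      · rintro rfl
        rw [← Perm.mul_apply, h1, Perm.one_apply]
      · rintro rfl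
        rw [← Perm.mul_apply, h1, Perm.one_apply]
    have h0 : ∀ i, i ≠ 1 → s i ≠ 0 := by
      intro i hi
      rw [← h4]
      exact hne i 1 hi
    have h1' : ∀ i, i ≠ 0 → s i ≠ 1 := by
      intro i hi
      rw [← h3]
      exact hne i 0 hi
    rw [Finset.mem_coe, List.mem_toFinset]
    refine codes (s 2) ⟨h0 _ (by decide), h1' _ (by decide), h2 _⟩
      (s 3) ⟨h0 _ (by decide), h1' _ (by decide), h2 _, hne _ _ (by decide), hinv _ _⟩
      (s 4) ⟨h0 _ (by decide), h1' _ (by decide), h2 _, hne _ _ (by decide), hne _ _ (by decide), hinv _ _, hinv _ _⟩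
      (s 5) ⟨h0 _ (by decide), h1' _ (by decide), h2 _, hne _ _ (by decide), hne _ _ (by decide), hne _ _ (by decide),
        hinv _ _, hinv _ _, hinv _ _⟩
      (s 6) ⟨h0 _ (by decide), h1' _ (by decide), h2 _, hne _ _ (by decide), hne _ _ (by decide), hne _ _ (by decide),
        hne _ _ (by decide), hinv _ _, hinv _ _, hinv _ _, hinv _ _⟩
      (s 7) ⟨h0 _ (by decide), h1' _ (by decide), h2 _, hne _ _ (by decide), hne _ _ (by decide), hne _ _ (by decide),
        hne _ _ (by decide), hne _ _ (by decide), hinv _ _, hinv _ _, hinv _ _, hinv _ _, hinv _ _⟩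
  · rintro s ⟨h1, -, h3⟩ s' ⟨h1', -, h3'⟩ he
    simp only [List.cons.injEq, and_true] at he
    obtain ⟨e2, e3, e4, e5, e6, e7⟩ := he
    have h4 : s 1 = 0 := by
      rw [← h3, ← Perm.mul_apply, h1, Perm.one_apply]
    have h4' : s' 1 = 0 := by
      rw [← h3', ← Perm.mul_apply, h1', Perm.one_apply]
    apply Equiv.ext
    intro i
    fin_cases i
    · exact h3.trans h3'.symm
    · exact h4.trans h4'.symm
    · exact e2
    · exact e3
    · exact e4
    · exact e5
    · exact e6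
    · exact e7

/-- elements exchanging `0` and `1` -/
def T01 : Set (Perm (Fin 8)) := {t | t 0 = 1 ∧ t 1 = 0}

theorem ncard_T01 : T01.ncard ≤ 720 := by
  have h1 : T01 ⊆ (fun d : Perm (Fin 6) => swap 0 1 * iota (iota d)) '' Set.univ := by
    rintro t ⟨h0, h1⟩
    obtain ⟨d, hd⟩ := exists_iota (g := swap 0 1 * t) (by rw [Perm.mul_apply, h0, swap_apply_right])
    have h2 : d 0 = 0 := by
      have h3 : (swap 0 1 * t : Perm (Fin 8)) 1 = 1 := by rw [Perm.mul_apply, h1, swap_apply_left]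
      rw [← hd, show (1 : Fin 8) = Fin.succ 0 from rfl, iota_succ] at h3
      exact Fin.succ_injective _ h3
    obtain ⟨d', hd'⟩ := exists_iota h2
    refine ⟨d', Set.mem_univ _, ?_⟩
    show swap 0 1 * iota (iota d') = t
    rw [hd', hd, ← mul_assoc, swap_mul_self, one_mul]
  refine (Set.ncard_le_ncard h1 (Set.toFinite _)).trans ((Set.ncard_image_le Set.finite_univ).trans ?_)
  rw [Set.ncard_univ, Nat.card_perm, Nat.card_fin]
  decide

open Cfsg.Agent.H220.EP (A7 Ys F7 norm_A7 dich card_Ys ncard_F7 ncard_mul_le exists_Ys card_A7 pretrans Y_le_A7)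

/-- the point stabilisers of order `7` or `21` -/
def D1 : Set (Subgroup (Perm (Fin 7))) :=
  Ys 7 ⊤ ∪ (fun Y : Subgroup (Perm (Fin 7)) => normalizer (Y : Set (Perm (Fin 7))) ⊓ A7) '' Ys 7 ⊤

theorem ncard_D1 : D1.ncard ≤ 240 := by
  refine (Set.ncard_union_le _ _).trans ?_
  have h1 := Set.ncard_image_le (f := fun Y : Subgroup (Perm (Fin 7)) => normalizer (Y : Set (Perm (Fin 7))) ⊓ A7)
    (Set.toFinite (Ys 7 (⊤ : Subgroup (Perm (Fin 7)))))
  rw [card_Ys] at h1 ⊢
  omega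

/-- the two transitive groups with point stabiliser of order `7` or `21` -/
def M1 : Set (Subgroup (Perm (Fin 8))) := (fun p : Subgroup (Perm (Fin 7)) × Perm (Fin 8) => gen p.1 p.2) '' (D1 ×ˢ S15)

theorem ncard_M1 : M1.ncard ≤ 3600 := by
  refine (Set.ncard_image_le (Set.toFinite _)).trans ?_
  rw [Set.ncard_prod]
  exact (Nat.mul_le_mul ncard_D1 ncard_S15).trans (by norm_num)

/-- the transitive groups with point stabiliser of order `168` -/
def M2 : Set (Subgroup (Perm (Fin 8))) := {M | IsPretransitive M (Fin 8) ∧ M.comap iota ∈ F7}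

theorem ncard_M2 : M2.ncard ≤ 1350 := by
  have h := ncard_mul_le M2 (F7 ×ˢ T01) (fun M p => p.1 = M.comap iota ∧ p.2 ∈ M) (m := 24) (n := 1) (by
    rintro M ⟨hM, hF⟩
    have h7 : 7 ∣ Nat.card (M.comap iota) := by rw [hF.2]; norm_num
    obtain ⟨t, ht, h0, h1⟩ := exists_swap hM h7
    have htr := pretrans h7
    have h2 := index_stabilizer_of_transitive (M.comap iota) (0 : Fin 7)
    have h3 := (stabilizer (M.comap iota) (0 : Fin 7)).index_mul_card
    rw [h2, Nat.card_fin, hF.2] at h3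
    have h4 : Nat.card (stabilizer (M.comap iota) (0 : Fin 7)) = 24 := by omega
    rw [← h4, ← Nat.card_coe_set_eq]
    refine Nat.card_le_card_of_injective
      (fun d : stabilizer (M.comap iota) (0 : Fin 7) => (⟨(M.comap iota, t * iota ((d : M.comap iota) : Perm (Fin 7))), ?_⟩ :
        {b | b ∈ F7 ×ˢ T01 ∧ b.1 = M.comap iota ∧ b.2 ∈ M})) ?_
    · refine ⟨⟨hF, ?_, ?_⟩, rfl, M.mul_mem ht (d : M.comap iota).2⟩
      · show (t * iota ((d : M.comap iota) : Perm (Fin 7))) 0 = 1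
        rw [Perm.mul_apply, iota_zero, h0]
      · show (t * iota ((d : M.comap iota) : Perm (Fin 7))) 1 = 0
        have h5 : ((d : M.comap iota) : Perm (Fin 7)) 0 = 0 := d.2
        rw [Perm.mul_apply, show (1 : Fin 8) = Fin.succ 0 from rfl, iota_succ, h5]
        exact h1
    · intro a b hab
      have h5 : t * iota ((a : M.comap iota) : Perm (Fin 7)) = t * iota ((b : M.comap iota) : Perm (Fin 7)) :=
        congrArg (fun x : {b | b ∈ F7 ×ˢ T01 ∧ b.1 = M.comap iota ∧ b.2 ∈ M} => x.1.2) hab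
      exact Subtype.ext (Subtype.ext (iota_inj (mul_left_cancel h5)))) (by
    rintro ⟨D, t⟩ ⟨hD, ht⟩
    rw [Set.ncard_le_one (Set.toFinite _)]
    have key : ∀ M : Subgroup (Perm (Fin 8)), M ∈ M2 → D = M.comap iota → t ∈ M → M = gen D t := by
      rintro M ⟨hM, hF⟩ rfl htM
      refine eq_gen hM (by rw [hF.2]; norm_num) htM ?_
      rw [ht.1]
      decide
    rintro M ⟨hM, h1, h2⟩ M' ⟨hM', h1', h2'⟩
    rw [key M hM h1 h2, key M' hM' h1' h2'])
  rw [Set.ncard_prod] at h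
  have h1 := Nat.mul_le_mul ncard_F7 ncard_T01
  omega

/-- **primitive groups** -/
theorem case_prim {G L : Subgroup (Perm (Fin 8))} (hG : alternatingGroup (Fin 8) ≤ G) (hL : MaxNot G L)
    (hP : IsPreprimitive L (Fin 8)) : ∃ X, (X ∈ EE ∨ X ∈ M1 ∨ X ∈ M2) ∧ L = G ⊓ normalizer (X : Set (Perm (Fin 8))) := by
  have hcard := card_dvd hP hL.nalt
  by_cases h7 : 7 ∣ Nat.card L
  · -- order divisible by 7
    obtain ⟨y, hy⟩ := exists_prime_orderOf_dvd_card' 7 h7
    have hyA : (y : Perm (Fin 8)) ∈ alternatingGroup (Fin 8) := by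
      rw [mem_alternatingGroup]
      have h1 : (y : Perm (Fin 8)) ^ 7 = 1 := by
        rw [← hy, ← Subgroup.orderOf_coe]
        exact pow_orderOf_eq_one _
      have h4 : sign (y : Perm (Fin 8)) ^ 7 = 1 := by rw [← map_pow, h1, map_one]
      rcases Int.units_eq_one_or (sign (y : Perm (Fin 8))) with h5 | h5
      · exact h5
      · rw [h5] at h4
        exact absurd h4 (by decide)
    have hnA : (alternatingGroup (Fin 8)).Normal := inferInstance
    have hconj : ∀ g ∈ L, ∀ x ∈ L ⊓ alternatingGroup (Fin 8), g * x * g⁻¹ ∈ L ⊓ alternatingGroup (Fin 8) := by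
      rintro g hg x ⟨hx, hxA⟩
      exact ⟨L.mul_mem (L.mul_mem hg hx) (L.inv_mem hg), hnA.conj_mem x hxA g⟩
    have hy1 : (y : Perm (Fin 8)) ≠ 1 := by
      intro h
      have h1 : y = 1 := Subtype.ext h
      rw [h1, orderOf_one] at hy
      norm_num at hy
    have hne : (alternatingGroup (Fin 8)).subgroupOf L ≠ ⊥ := by
      intro h
      have h1 : y ∈ (alternatingGroup (Fin 8)).subgroupOf L := mem_subgroupOf.2 hyA
      rw [h, mem_bot] at h1
      exact hy1 (congrArg Subtype.val h1)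
    have htr0 := trans_of_normal hP ((alternatingGroup (Fin 8)).subgroupOf L) inferInstance hne
    have htr : IsPretransitive (L ⊓ alternatingGroup (Fin 8) : Subgroup (Perm (Fin 8))) (Fin 8) := by
      refine ⟨fun i j => ?_⟩
      obtain ⟨x, hx⟩ := htr0.exists_smul_eq i j
      exact ⟨⟨((x : L) : Perm (Fin 8)), (x : L).2, mem_subgroupOf.1 x.2⟩, hx⟩
    have hM7 : 7 ∣ Nat.card (L ⊓ alternatingGroup (Fin 8) : Subgroup (Perm (Fin 8))) := by
      have h1 := orderOf_dvd_natCard (⟨y, y.2, hyA⟩ : (L ⊓ alternatingGroup (Fin 8) : Subgroup (Perm (Fin 8))))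
      rw [← Subgroup.orderOf_coe] at h1
      change orderOf (y : Perm (Fin 8)) ∣ _ at h1
      rw [Subgroup.orderOf_coe, hy] at h1
      exact h1
    have hM := card_trans htr
    have hMd : Nat.card (L ⊓ alternatingGroup (Fin 8) : Subgroup (Perm (Fin 8))) ∣ 1344 :=
      (card_dvd_of_le inf_le_left).trans hcard
    set M := L ⊓ alternatingGroup (Fin 8) with hMdef
    have hD7 : 7 ∣ Nat.card (M.comap iota) := by
      rw [hM] at hM7
      exact Nat.Coprime.dvd_of_dvd_mul_left (by norm_num) hM7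
    have hD168 : Nat.card (M.comap iota) ∣ 168 := by
      rw [hM, show 1344 = 8 * 168 by norm_num] at hMd
      exact Nat.dvd_of_mul_dvd_mul_left (by norm_num) hMd
    have hDA : M.comap iota ≤ A7 := by
      intro d hd
      exact iota_mem_alt.1 (show iota d ∈ alternatingGroup (Fin 8) from (mem_comap.1 hd).2)
    have hDn : ¬ A7 ≤ M.comap iota := by
      intro h
      have h1 := (card_dvd_of_le h).trans hD168
      rw [card_A7] at h1
      norm_num at h1
    have hMne : M ≠ ⊥ := by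
      intro h
      rw [h, card_bot] at hM7
      norm_num at hM7
    refine ⟨M, Or.inr ?_, eq_inf_norm hG hL inf_le_left hMne hconj⟩
    obtain ⟨Y, hY⟩ := exists_Ys hD7
    rcases dich hDA hDn hY with h | h
    · left
      obtain ⟨h21, -⟩ := norm_A7 hY.2
      have hle : M.comap iota ≤ normalizer (Y : Set (Perm (Fin 7))) ⊓ A7 := le_inf h hDA
      have hd := card_dvd_of_le hle
      rw [h21] at hd
      have hodd : Odd (Nat.card (M.comap iota)) := Odd.of_dvd_nat (by decide) hd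
      obtain ⟨s, hsM, hs⟩ := exists_S15 htr hD7 hodd
      refine ⟨(M.comap iota, s), ⟨?_, hs⟩, ?_⟩
      · obtain ⟨c, hc⟩ := hD7
        rw [hc, show 21 = 7 * 3 by norm_num] at hd
        have hd' := Nat.dvd_of_mul_dvd_mul_left (by norm_num) hd
        rcases (Nat.dvd_prime Nat.prime_three).1 hd' with h1 | h1
        · left
          have : Y = M.comap iota := Subgroup.eq_of_le_of_card_ge hY.1 (by rw [hc, hY.2, h1])
          show M.comap iota ∈ Ys 7 ⊤
          rw [← this]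
          exact ⟨le_top, hY.2⟩
        · right
          refine ⟨Y, ⟨le_top, hY.2⟩, ?_⟩
          symm
          exact Subgroup.eq_of_le_of_card_ge hle (by rw [hc, h21, h1])
      · symm
        exact eq_gen htr hD7 hsM (by rw [hs.2.2]; decide)
    · right
      exact ⟨htr, hDA, h.1⟩
  · -- a solvable group
    have h1 : Nat.card L ∣ 2 ^ 6 * 3 ^ 1 := by
      rw [show 1344 = 7 * (2 ^ 6 * 3 ^ 1) by norm_num] at hcard
      exact ((Nat.Prime.coprime_iff_not_dvd (by norm_num)).2 h7).symm.dvd_of_dvd_mul_left hcard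
    obtain ⟨y, z, hy, hz, hyz⟩ := Nat.dvd_mul.1 h1
    obtain ⟨a, -, rfl⟩ := (Nat.dvd_prime_pow (by norm_num)).1 hy
    obtain ⟨b, -, rfl⟩ := (Nat.dvd_prime_pow (by norm_num)).1 hz
    have hs : Group.IsSolvable L := Cfsg.Agent.S0144.result 2 3 a b (by norm_num) (by norm_num) hyz.symm
    obtain ⟨X, hX, hXL, hXn⟩ := exists_EE hP hs
    exact ⟨X, Or.inl hX, eq_inf_norm hG hL hXL (EE.ne_bot hX) hXn⟩

open scoped Pointwise in
theorem ncard_maxNot {G : Subgroup (Perm (Fin 8))} (hG : alternatingGroup (Fin 8) ≤ G) :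
    {L : Subgroup (Perm (Fin 8)) | MaxNot G L}.ncard ≤ 10607 := by
  classical
  have hcov : {L : Subgroup (Perm (Fin 8)) | MaxNot G L} ⊆
      ((fun Δ : Set (Fin 8) => G ⊓ stabilizer (Perm (Fin 8)) Δ) '' Set.univ ∪
      (fun B : Set (Fin 8) => G ⊓ stabilizer (Perm (Fin 8)) ({B, Bᶜ} : Set (Set (Fin 8)))) '' Set.univ ∪
      (fun τ : Perm (Fin 8) => G ⊓ centralizer ({τ} : Set (Perm (Fin 8)))) '' {τ | τ.cycleType = Multiset.replicate 4 2} ∪
      (fun X : Subgroup (Perm (Fin 8)) => G ⊓ normalizer (X : Set (Perm (Fin 8)))) '' (EE ∪ M1 ∪ M2)) := by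
    intro L hL
    by_cases ht : IsPretransitive L (Fin 8)
    · by_cases hP : IsPreprimitive L (Fin 8)
      · obtain ⟨X, h1, h2⟩ := case_prim hG hL hP
        refine Or.inr ⟨X, ?_, h2.symm⟩
        rcases h1 with h1 | h1 | h1
        · exact Or.inl (Or.inl h1)
        · exact Or.inl (Or.inr h1)
        · exact Or.inr h1
      · obtain ⟨B, hB, hBt⟩ : ∃ B : Set (Fin 8), IsBlock L B ∧ ¬ IsTrivialBlock B := by
          by_contra hcon
          push Not at hcon
          exact hP { ht with isTrivialBlock_of_isBlock := fun {B} hB => hcon B hB }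
        have hBne : B.Nonempty := by
          by_contra h0
          rw [Set.not_nonempty_iff_eq_empty] at h0
          exact hBt (Or.inl (by rw [h0]; exact Set.subsingleton_empty))
        have h1 := hB.ncard_block_mul_ncard_orbit_eq hBne
        rw [Nat.card_fin] at h1
        have h2 : B.ncard ≠ 1 := fun h3 => hBt (Or.inl (Set.ncard_le_one_iff_subsingleton.1 h3.le))
        have h3 : B.ncard ≠ 8 := fun h3 => hBt (Or.inr (Set.eq_of_subset_of_ncard_le (Set.subset_univ B) (by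
          rw [Set.ncard_univ, Nat.card_fin, h3])))
        have h4 : B.ncard ∣ 8 := Dvd.intro _ h1
        have h5 : B.ncard ≤ 8 := Nat.le_of_dvd (by norm_num) h4
        have h6 : B.ncard = 2 ∨ B.ncard = 4 := by
          interval_cases h : B.ncard <;> omega
        rcases h6 with h6 | h6
        · obtain ⟨τ, h7, h8⟩ := case_two hG hL ht hB h6
          exact Or.inl (Or.inr ⟨τ, h7, h8.symm⟩)
        · exact Or.inl (Or.inl (Or.inr ⟨B, Set.mem_univ _, (case_four hG hL hB h6).symm⟩))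
    · obtain ⟨Δ, h1⟩ := case_orbit hG hL ht
      exact Or.inl (Or.inl (Or.inl ⟨Δ, Set.mem_univ _, h1.symm⟩))
  refine (Set.ncard_le_ncard hcov (Set.toFinite _)).trans ?_
  have hset : (Set.univ : Set (Set (Fin 8))).ncard = 256 := by
    rw [Set.ncard_univ, Nat.card_eq_fintype_card, Fintype.card_set, Fintype.card_fin]
    norm_num
  have e1 : ((fun Δ : Set (Fin 8) => G ⊓ stabilizer (Perm (Fin 8)) Δ) '' Set.univ).ncard ≤ 256 := by
    rw [← hset]; exact Set.ncard_image_le Set.finite_univ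
  have e2 : ((fun B : Set (Fin 8) => G ⊓ stabilizer (Perm (Fin 8)) ({B, Bᶜ} : Set (Set (Fin 8)))) ''
      Set.univ).ncard ≤ 256 := by
    rw [← hset]; exact Set.ncard_image_le Set.finite_univ
  have e3 : ((fun τ : Perm (Fin 8) => G ⊓ centralizer ({τ} : Set (Perm (Fin 8)))) ''
      {τ | τ.cycleType = Multiset.replicate 4 2}).ncard ≤ 105 := by
    refine (Set.ncard_image_le (Set.toFinite _)).trans ?_
    have h1 := Equiv.Perm.card_of_cycleType (Fin 8) (Multiset.replicate 4 2)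
    rw [if_pos ⟨by simp, fun a ha => (Multiset.eq_of_mem_replicate ha).ge⟩] at h1
    have h2 : ({τ : Perm (Fin 8) | τ.cycleType = Multiset.replicate 4 2} : Set (Perm (Fin 8))).ncard =
        Finset.card {τ : Perm (Fin 8) | τ.cycleType = Multiset.replicate 4 2} := by
      rw [← Set.ncard_coe_finset, Finset.coe_filter_univ]
    rw [h2, h1, Fintype.card_fin, Multiset.sum_replicate, Multiset.prod_replicate, Multiset.toFinset_replicate,
      if_neg (by norm_num), Finset.prod_singleton, Multiset.count_replicate_self]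
    norm_num [Nat.factorial]
  have e4 : ((fun X : Subgroup (Perm (Fin 8)) => G ⊓ normalizer (X : Set (Perm (Fin 8)))) '' (EE ∪ M1 ∪ M2)).ncard ≤ 9990 := by
    refine (Set.ncard_image_le (Set.toFinite _)).trans ?_
    have h1 := Set.ncard_union_le (EE ∪ M1) M2
    have h2 := Set.ncard_union_le EE M1
    have h3 := ncard_EE
    have h4 := ncard_M1
    have h5 := ncard_M2
    omega
  refine (Set.ncard_union_le _ _).trans ?_
  refine (Nat.add_le_add ((Set.ncard_union_le _ _).trans (Nat.add_le_add ((Set.ncard_union_le _ _).trans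
    (Nat.add_le_add e1 e2)) e3)) e4).trans ?_
  norm_num

end A8

open Cfsg.Agent.H284

/-- **`soc(A) = A₈`** -/
theorem index_le_eight_soc {Q : Type*} [Group Q] [Finite Q] {A N : Subgroup Q} {Γ : Subgroup (MulAut Q)}
    (h : EPT A Γ) (hS : Soc A N) (e : N ≃* alternatingGroup (Fin 8)) : A.index ≤ 122000000 := by
  obtain ⟨G, hG, h1⟩ := index_le_maxNot hS h (by norm_num) e
  refine h1.trans ((Nat.pow_le_pow_left (A8.ncard_maxNot hG) 2).trans ?_)
  norm_num

/-- **`soc(A) = A₈`** -/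
theorem index_le_eight {Q : Type*} [Group Q] [Finite Q] {A : Subgroup Q} {Γ : Subgroup (MulAut Q)}
    (h : EPT A Γ) (hS : Cfsg.Agent.H419.EP.HasSoc A (alternatingGroup (Fin 8))) : A.index ≤ 122000000 := by
  obtain ⟨N, h1, h2, h3, ⟨e⟩⟩ := hS
  exact index_le_eight_soc h ⟨h1, h2, h3⟩ e

end Cfsg.Agent.H417.EP
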