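import Cfsg.Agent.H417.EP.Weight

/-!
# Extremely primitive groups: a simple socle (helper417)

`A` has the unique minimal normal subgroup `N ≃* L`, `L` simple, `Out(L)` abelian: `N` is `Γ`-invariant and has
non-trivial intersection with all two-point stabilisers.
-/

set_option autoImplicit false

namespace Cfsg.Agent.H417.EP

open Subgroup MulAction
open Cfsg.Agent.H284

variable {Q : Type*} [Group Q] {A : Subgroup Q} {Γ : Subgroup (MulAut Q)}
  {L : Type*} [Group L]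

/-- the embedding of `L` -/
def emb {N : Subgroup Q} (e : N ≃* L) : L →* Q := N.subtype.comp e.symm.toMonoidHom

theorem emb_mem {N : Subgroup Q} (e : N ≃* L) (l : L) : emb e l ∈ N := (e.symm l).2

theorem emb_inj {N : Subgroup Q} (e : N ≃* L) : Function.Injective (emb e) :=
  fun _ _ h => e.symm.injective (Subtype.ext h)

theorem exists_emb {N : Subgroup Q} (e : N ≃* L) {n : Q} (hn : n ∈ N) : ∃ l, emb e l = n := ⟨e ⟨n, hn⟩, by
  show ((e.symm (e ⟨n, hn⟩) : N) : Q) = n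
  rw [MulEquiv.symm_apply_apply]⟩

/-- `N` is the unique minimal normal subgroup of `A` -/
theorem soc_le {N : Subgroup Q} (hNA : N ≤ A) (hN : ∀ a ∈ A, ∀ n ∈ N, a * n * a⁻¹ ∈ N) [IsSimpleGroup L]
    (e : N ≃* L) (hcent : ∀ a ∈ A, (∀ n ∈ N, a * n = n * a) → a = 1) {M : Subgroup Q} (hM : M ≤ A)
    (hMn : ∀ a ∈ A, ∀ m ∈ M, a * m * a⁻¹ ∈ M) (hne : M ≠ ⊥) : N ≤ M := by
  have hK : (M.comap (emb e)).Normal := by
    constructor
    intro n hn g
    rw [mem_comap, map_mul, map_mul, map_inv]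
    exact hMn _ (hNA (emb_mem e g)) _ hn
  rcases hK.eq_bot_or_eq_top with h1 | h1
  · exfalso
    apply hne
    rw [eq_bot_iff]
    intro m hm
    rw [mem_bot]
    refine hcent m (hM hm) fun n hn => ?_
    have h2 : m * n * m⁻¹ * n⁻¹ ∈ N := N.mul_mem (hN m (hM hm) n hn) (N.inv_mem hn)
    have h3 : m * n * m⁻¹ * n⁻¹ ∈ M := by
      have : m * (n * m⁻¹ * n⁻¹) ∈ M := M.mul_mem hm (hMn n (hNA hn) _ (M.inv_mem hm))
      simpa only [mul_assoc] using this
    obtain ⟨l, hl⟩ := exists_emb e h2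
    have h4 : l ∈ M.comap (emb e) := by rw [mem_comap, hl]; exact h3
    rw [h1, mem_bot] at h4
    rw [h4, map_one] at hl
    have h5 : m * n * m⁻¹ * n⁻¹ * (n * m) = n * m := by rw [← hl, one_mul]
    have h6 : m * n * m⁻¹ * n⁻¹ * (n * m) = m * n := by group
    rw [← h6, h5]
  · intro n hn
    obtain ⟨l, rfl⟩ := exists_emb e hn
    have h2 : l ∈ M.comap (emb e) := by rw [h1]; exact mem_top l
    exact h2

theorem base_inv [Finite Q] (h : EPT A Γ) {N : Subgroup Q} (hNA : N ≤ A) (hN : ∀ a ∈ A, ∀ n ∈ N, a * n * a⁻¹ ∈ N)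
    [IsSimpleGroup L] (e : N ≃* L) (hcent : ∀ a ∈ A, (∀ n ∈ N, a * n = n * a) → a = 1) : Inv A Γ (emb e) where
  inj := emb_inj e
  mem := fun l => hNA (emb_mem e l)
  inv := by
    intro σ hσ l
    have h1 : N ≤ N.map σ.toMonoidHom := by
      refine soc_le hNA hN e hcent ?_ ?_ ?_
      · rintro _ ⟨n, hn, rfl⟩
        exact (h.inv σ hσ n).2 (hNA hn)
      · rintro a ha _ ⟨n, hn, rfl⟩
        have h2 : σ⁻¹ a ∈ A := (h.inv _ (Γ.inv_mem hσ) a).2 ha
        refine ⟨σ⁻¹ a * n * (σ⁻¹ a)⁻¹, hN _ h2 _ hn, ?_⟩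
        show σ (σ⁻¹ a * n * (σ⁻¹ a)⁻¹) = a * σ n * a⁻¹
        rw [map_mul, map_mul, map_inv, MulAut.apply_inv_self]
      · intro e1
        rw [Subgroup.map_eq_bot_iff_of_injective _ σ.injective] at e1
        obtain ⟨a, b, hab⟩ := exists_pair_ne L
        apply hab
        apply emb_inj e
        have h3 : ∀ l, emb e l = 1 := fun l => by
          have := e1.le (emb_mem e l)
          rwa [mem_bot] at this
        rw [h3, h3]
    have h2 : N.map σ.toMonoidHom = N := by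
      have h3 : Nat.card (N.map σ.toMonoidHom) = Nat.card N :=
        (Nat.card_congr (N.equivMapOfInjective σ.toMonoidHom σ.injective).toEquiv).symm
      exact (Subgroup.eq_of_le_of_card_ge h1 h3.le).symm
    have h3 : σ (emb e l) ∈ N := h2.le ⟨_, emb_mem e l, rfl⟩
    obtain ⟨l', hl'⟩ := exists_emb e h3
    exact ⟨l', hl'.symm⟩

/-- commutators of elements of `A` are in `N` if `Out(N)` is abelian -/
theorem base_comm {N : Subgroup Q} (hNA : N ≤ A) (hN : ∀ a ∈ A, ∀ n ∈ N, a * n * a⁻¹ ∈ N)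
    (e : N ≃* L) (hcent : ∀ a ∈ A, (∀ n ∈ N, a * n = n * a) → a = 1)
    (hOut : ∀ α β : MulAut L, α * β * α⁻¹ * β⁻¹ ∈ (MulAut.conj : L →* MulAut L).range) {a b : Q} (ha : a ∈ A)
    (hb : b ∈ A) : a * b * a⁻¹ * b⁻¹ ∈ N := by
  have key : ∀ a ∈ A, ∃ α : MulAut L, ∀ l, emb e (α l) = a * emb e l * a⁻¹ := by
    intro a ha
    let f : N ≃* N :=
      { toFun := fun n => ⟨a * n * a⁻¹, hN a ha n n.2⟩
        invFun := fun n => ⟨a⁻¹ * n * a, by
          have := hN _ (A.inv_mem ha) n n.2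
          rwa [inv_inv] at this⟩
        left_inv := fun n => Subtype.ext (by
          show a⁻¹ * (a * (n : Q) * a⁻¹) * a = n
          group)
        right_inv := fun n => Subtype.ext (by
          show a * (a⁻¹ * (n : Q) * a) * a⁻¹ = n
          group)
        map_mul' := fun n m => Subtype.ext (by
          show a * ((n : Q) * m) * a⁻¹ = a * n * a⁻¹ * (a * m * a⁻¹)
          group) }
    refine ⟨(e.symm.trans f).trans e, fun l => ?_⟩
    show ((e.symm (e (f (e.symm l))) : N) : Q) = a * (e.symm l : N) * a⁻¹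
    rw [MulEquiv.symm_apply_apply]
    rfl
  obtain ⟨α, hα⟩ := key a ha
  obtain ⟨β, hβ⟩ := key b hb
  obtain ⟨z, hz⟩ := hOut α β
  have hαi : ∀ l, emb e (α⁻¹ l) = a⁻¹ * emb e l * a := by
    intro l
    have := hα (α⁻¹ l)
    rw [MulAut.apply_inv_self] at this
    rw [this]
    group
  have hβi : ∀ l, emb e (β⁻¹ l) = b⁻¹ * emb e l * b := by
    intro l
    have := hβ (β⁻¹ l)
    rw [MulAut.apply_inv_self] at this
    rw [this]
    group
  have h1 : ∀ l, emb e z * emb e l * (emb e z)⁻¹ = (a * b * a⁻¹ * b⁻¹) * emb e l * (a * b * a⁻¹ * b⁻¹)⁻¹ := by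
    intro l
    have h2 := DFunLike.congr_fun hz l
    rw [MulAut.conj_apply, MulAut.mul_apply, MulAut.mul_apply, MulAut.mul_apply] at h2
    have h3 := congrArg (emb e) h2
    rw [map_mul, map_mul, map_inv, hα, hβ, hαi, hβi] at h3
    rw [h3]
    group
  have hc : a * b * a⁻¹ * b⁻¹ ∈ A := A.mul_mem (A.mul_mem (A.mul_mem ha hb) (A.inv_mem ha)) (A.inv_mem hb)
  have hzA : emb e z ∈ A := hNA (emb_mem e z)
  have h4 : (emb e z)⁻¹ * (a * b * a⁻¹ * b⁻¹) = 1 := by
    refine hcent _ (A.mul_mem (A.inv_mem hzA) hc) fun n hn => ?_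
    obtain ⟨l, rfl⟩ := exists_emb e hn
    have h5 := h1 l
    have h6 : (emb e z)⁻¹ * (a * b * a⁻¹ * b⁻¹) * emb e l =
        (emb e z)⁻¹ * ((a * b * a⁻¹ * b⁻¹) * emb e l * (a * b * a⁻¹ * b⁻¹)⁻¹) * (a * b * a⁻¹ * b⁻¹) := by group
    rw [h6, ← h5]
    group
  rw [inv_mul_eq_one] at h4
  rw [← h4]
  exact emb_mem e z

/-- the traces are not trivial -/
theorem base_tr [Finite Q] (h : EPT A Γ) {N : Subgroup Q} (hNA : N ≤ A) (hN : ∀ a ∈ A, ∀ n ∈ N, a * n * a⁻¹ ∈ N)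
    [IsSimpleGroup L] (hna : ∃ a b : L, a * b ≠ b * a) (e : N ≃* L)
    (hcent : ∀ a ∈ A, (∀ n ∈ N, a * n = n * a) → a = 1)
    (hOut : ∀ α β : MulAut L, α * β * α⁻¹ * β⁻¹ ∈ (MulAut.conj : L →* MulAut L).range) {x : Q} (hx : x ∉ A) :
    tr (emb e) A x ≠ ⊥ := by
  intro ht
  obtain ⟨K, hK, hKn, hKne, hKc⟩ := h.abM0 x hx (fun a ha b hb => by
    have h1 := base_comm hNA hN e hcent hOut ha.1 hb.1
    obtain ⟨l, hl⟩ := exists_emb e h1
    have h2 : a * b * a⁻¹ * b⁻¹ ∈ cj x A :=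
      (cj x A).mul_mem ((cj x A).mul_mem ((cj x A).mul_mem ha.2 hb.2) ((cj x A).inv_mem ha.2)) ((cj x A).inv_mem hb.2)
    have h3 : l ∈ tr (emb e) A x := by rw [mem_tr, hl]; exact mem_cj.1 h2
    rw [ht, mem_bot] at h3
    rw [h3, map_one] at hl
    have h5 : a * b * a⁻¹ * b⁻¹ * (b * a) = b * a := by rw [← hl, one_mul]
    have h6 : a * b * a⁻¹ * b⁻¹ * (b * a) = a * b := by group
    rw [← h6, h5])
  obtain ⟨a, b, hab⟩ := hna
  have h1 : N ≤ K := soc_le hNA hN e hcent hK (fun a ha m hm => by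
    have := hKn _ ((h.conj a).2 ha) m hm
    rwa [MulAut.conj_apply] at this) hKne
  apply hab
  apply emb_inj e
  rw [map_mul, map_mul]
  exact hKc _ (h1 (emb_mem e a)) _ (h1 (emb_mem e b))

end Cfsg.Agent.H417.EP
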