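import Cfsg.Agent.H417.EP.ElevenAdm
import Cfsg.Agent.H417.EP.Base
import Cfsg.Agent.S0813
import Cfsg.Agent.S0265

/-!
# Extremely primitive groups: point stabilisers with socle `PSL₂(11)` (helper417)

The index is at most 5274.
-/

set_option autoImplicit false

namespace Cfsg.Agent.H417.EP

open Subgroup
open Cfsg.Agent.H284
open Cfsg.Agent.H579.ElevenMat

/-- commutators are inner if the inner automorphisms have index at most 2 -/
theorem out_comm {L : Type*} [Group L] [Finite L] (hc : ∀ z : L, (∀ x, z * x = x * z) → z = 1)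
    (h : Nat.card (MulAut L) = 2 * Nat.card L) (α β : MulAut L) :
    α * β * α⁻¹ * β⁻¹ ∈ (MulAut.conj : L →* MulAut L).range := by
  have hinj : Function.Injective (MulAut.conj : L →* MulAut L) := by
    rw [injective_iff_map_eq_one]
    intro z hz
    apply hc
    intro x
    have h1 := DFunLike.congr_fun hz x
    rw [MulAut.conj_apply, MulAut.one_apply, mul_inv_eq_iff_eq_mul] at h1
    exact h1
  have h1 : Nat.card (MulAut.conj : L →* MulAut L).range = Nat.card L :=
    (Nat.card_congr (MonoidHom.ofInjective hinj).toEquiv).symm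
  have h2 : (MulAut.conj : L →* MulAut L).range.index = 2 := by
    have h3 := (MulAut.conj : L →* MulAut L).range.card_mul_index
    rw [h1, h, mul_comm 2] at h3
    exact Nat.eq_of_mul_eq_mul_left Nat.card_pos h3
  have h4 : α * β * α⁻¹ * β⁻¹ ∈ (MulAut.conj : L →* MulAut L).range ↔ _ := mul_mem_iff_of_index_two h2
  rw [h4, mul_mem_iff_of_index_two h2, mul_mem_iff_of_index_two h2, inv_mem_iff, inv_mem_iff]
  tauto

namespace Eleven

theorem card_aut : Nat.card (MulAut PS) = 1320 := by
  rw [Cfsg.Agent.S0813.result 11 1 le_rfl (by rw [ZMod.card, pow_one]) 2 le_rfl (fun _ => by norm_num),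
    Cfsg.Agent.S0265.result, Cfsg.Agent.ClassicalGeometry.PSL2Basic.card_SL2, ZMod.card]
  norm_num

variable {Q : Type*} [Group Q] [Finite Q] {A : Subgroup Q} {Γ : Subgroup (MulAut Q)}

/-- **The point stabiliser has socle `PSL₂(11)`: the index is at most 5274.** -/
theorem index_le (h : EPT A Γ) {N : Subgroup Q} (hNA : N ≤ A) (hN : ∀ a ∈ A, ∀ n ∈ N, a * n * a⁻¹ ∈ N)
    (e : N ≃* Matrix.ProjectiveSpecialLinearGroup (Fin 2) (ZMod 11))
    (hcent : ∀ a ∈ A, (∀ n ∈ N, a * n = n * a) → a = 1) : A.index ≤ 5274 := by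
  classical
  have hz : ∀ z : PS, (∀ x, z * x = x * z) → z = 1 := by
    intro z hz
    have h1 : z ∈ center PS := mem_center_iff.2 fun g => (hz g).symm
    rcases (inferInstance : (center PS).Normal).eq_bot_or_eq_top with h2 | h2
    · rwa [h2, mem_bot] at h1
    · exfalso
      obtain ⟨a, b, hab⟩ := ncomm
      have h3 : b ∈ center PS := by rw [h2]; exact mem_top b
      exact hab (mem_center_iff.1 h3 a)
  have hOut := out_comm hz (by rw [card_aut, card_PS])
  have hi : Inv A Γ (emb e) := base_inv h hNA hN e hcent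
  have hne : ∀ x, x ∉ A → tr (emb e) A x ≠ ⊥ := fun x hx => base_tr h hNA hN ncomm e hcent hOut hx
  have : Fintype PS := Fintype.ofFinite PS
  have h1 := weight_bound h hi hne (fun t => wt t) (if_pos rfl) (c := 88) (W := 1958) (m := 238)
    (fun K hK => by
      have := wt_adm hK
      convert this) (by convert sum_le) ncard_adm
  omega

/-- the form of the plan -/
theorem index_le' (h : EPT A Γ) {N : Subgroup Q} (hNA : N ≤ A) (hN : ∀ a ∈ A, ∀ n ∈ N, a * n * a⁻¹ ∈ N)
    (e : N ≃* Matrix.ProjectiveSpecialLinearGroup (Fin 2) (ZMod 11))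
    (hcent : ∀ a ∈ A, (∀ n ∈ N, a * n = n * a) → a = 1) : A.index ≤ 10000 :=
  (index_le h hNA hN e hcent).trans (by norm_num)

end Eleven

end Cfsg.Agent.H417.EP
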