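import Cfsg.Agent.H417.EP.ASix
import Cfsg.Agent.H417.EP.Base
import Cfsg.Agent.H419.EP.Soc

/-!
# Extremely primitive groups: point stabilisers with socle `A₆` (helper417)

The index is at most 1486, the order less than 4680000.
-/

set_option autoImplicit false

namespace Cfsg.Agent.H417.EP.Six

open Subgroup Cfsg.Agent.H284 Cfsg.Agent.H419.EP

variable {Q : Type*} [Group Q] [Finite Q] {A : Subgroup Q} {Γ : Subgroup (MulAut Q)}

theorem index_le (h : EPT A Γ) {N : Subgroup Q} (hNA : N ≤ A) (hN : ∀ a ∈ A, ∀ n ∈ N, a * n * a⁻¹ ∈ N)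
    (e : N ≃* A6) (hcent : ∀ a ∈ A, (∀ n ∈ N, a * n = n * a) → a = 1) : A.index ≤ 1486 := by
  classical
  have hOut := out_comm center_A6 (by rw [card_aut, card_A6])
  have hi : Inv A Γ (emb e) := base_inv h hNA hN e hcent
  have hne : ∀ x, x ∉ A → tr (emb e) A x ≠ ⊥ := fun x hx => base_tr h hNA hN ncomm e hcent hOut hx
  have : Fintype A6 := Fintype.ofFinite A6
  have h1 := weight_bound h hi hne (fun t => if orderOf t = 2 then 1 else 0) (if_neg (by rw [orderOf_one]; norm_num))
    (c := 5) (W := 45) (m := 166) (fun K hK => by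
      refine (inv_ge hK).trans (le_of_eq ?_)
      have h2 : ∀ t : A6, (if t ∈ K then (if orderOf t = 2 then 1 else 0) else 0) =
          (if t ∈ K ∧ orderOf t = 2 then 1 else 0) := by
        intro t
        split_ifs <;> simp_all
      simp only [h2]
      rw [← Finset.card_filter, Nat.card_eq_fintype_card, Fintype.card_subtype]) (by
      rw [← Finset.card_filter]
      refine le_trans (le_of_eq ?_) two_le
      rw [Eleven.card_filter_univ]
      congr 1
      ext x
      exact mem_D_two.symm) ncard_adm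
  omega

theorem index_of_hasSoc (h : EPT A Γ) (hs : HasSoc A (alternatingGroup (Fin 6))) : A.index ≤ 1486 := by
  obtain ⟨N, h1, h2, h3, ⟨e⟩⟩ := hs
  exact index_le h h1 h2 e h3

omit [Finite Q] in
/-- the order of a group with a simple socle -/
theorem card_le_aut {S : Type*} [Group S] [Finite S] (hs : HasSoc A S) : Nat.card A ≤ Nat.card (MulAut S) := by
  obtain ⟨N, h1, h2, h3, ⟨e⟩⟩ := hs
  have hNf : Finite N := Finite.of_equiv _ e.symm.toEquiv
  have hc : ∀ a : A, ∃ φ : MulAut N, ∀ n : N, ((φ n : N) : Q) = a * n * (a : Q)⁻¹ := by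
    intro a
    refine ⟨{ toFun := fun n => ⟨a * n * (a : Q)⁻¹, h2 a a.2 n n.2⟩
              invFun := fun n => ⟨(a : Q)⁻¹ * n * a, by
                have := h2 (a : Q)⁻¹ (A.inv_mem a.2) n n.2
                rwa [inv_inv] at this⟩
              left_inv := fun n => Subtype.ext (by
                show (a : Q)⁻¹ * (a * n * (a : Q)⁻¹) * a = n
                group)
              right_inv := fun n => Subtype.ext (by
                show (a : Q) * ((a : Q)⁻¹ * n * a) * (a : Q)⁻¹ = n
                group)
              map_mul' := fun n m => Subtype.ext (by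
                show (a : Q) * (n * m) * (a : Q)⁻¹ = (a * n * (a : Q)⁻¹) * (a * m * (a : Q)⁻¹)
                group) }, fun n => rfl⟩
  choose φ hφ using hc
  have hinj : Function.Injective φ := by
    intro a b hab
    have h4 : (a : Q)⁻¹ * b = 1 := by
      apply h3 _ (A.mul_mem (A.inv_mem a.2) b.2)
      intro n hn
      have h5 : (a : Q) * n * (a : Q)⁻¹ = b * n * (b : Q)⁻¹ := by
        rw [← hφ a ⟨n, hn⟩, ← hφ b ⟨n, hn⟩, hab]
      have h6 : (a : Q)⁻¹ * b * n = (a : Q)⁻¹ * (b * n * (b : Q)⁻¹) * b := by group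
      rw [h6, ← h5]
      group
    rw [inv_mul_eq_one] at h4
    exact Subtype.ext h4
  have : Finite (MulAut N) := Finite.of_equiv _ (MulAut.congr e).symm.toEquiv
  rw [← Nat.card_congr (MulAut.congr e).toEquiv]
  exact Nat.card_le_card_of_injective φ hinj

/-- **`soc(A) = A₆`**: the order -/
theorem card_lt (h : EPT A Γ) (hs : HasSoc A (alternatingGroup (Fin 6))) : Nat.card Q < 4680000 := by
  have h1 := index_of_hasSoc h hs
  have h2 := card_le_aut hs
  rw [card_aut] at h2
  have h3 := A.card_mul_index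
  have h4 := Nat.mul_le_mul h2 h1
  omega

theorem false_of_le (h : EPT A Γ) (hs : HasSoc A (alternatingGroup (Fin 6))) (hQ : 4680000 ≤ Nat.card Q) : False := by
  have := card_lt h hs
  omega

/-- the form for the row `PSU₃` -/
theorem H4 : ∀ K : Subgroup (alternatingGroup (Fin 6)), Adm K →
    4 ≤ Nat.card {l : alternatingGroup (Fin 6) // l ∈ K ∧ orderOf l = 2} :=
  fun _ hK => le_trans (by norm_num) (inv_ge hK)

end Cfsg.Agent.H417.EP.Six
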