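import Cfsg.Agent.H839.EP.AltFrame
import Cfsg.Agent.H220.EP.PermSeven
import Cfsg.Agent.S0713
import Cfsg.Agent.S0144

/-!
# S3499 (IV-L), `soc(A) = A₈`: maximal subgroups of `A₈` and `S₈` (helper417)

Intransitive and imprimitive subgroups; the order of a primitive subgroup; regular elementary abelian subgroups.
-/

set_option autoImplicit false

namespace Cfsg.Agent.H417.EP.A8

open Subgroup Equiv Equiv.Perm Cfsg.Agent.H839.EP
open scoped commutatorElement

/-- a primitive group of degree `8` not containing `A₈` contains no Sylow subgroup of `S₈` -/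
theorem not_pow_dvd {L : Subgroup (Perm (Fin 8))} (hP : MulAction.IsPreprimitive L (Fin 8))
    (hn : ¬ alternatingGroup (Fin 8) ≤ L) {p : ℕ} (hp : p.Prime) (hp7 : p ≤ 5) :
    ¬ p ^ ((Nat.factorial 8).factorization p) ∣ Nat.card L := by
  intro hd
  have hpf := Fact.mk hp
  have hc10 : Nat.card (Perm (Fin 8)) = Nat.factorial 8 := by
    rw [Nat.card_perm, Nat.card_eq_fintype_card, Fintype.card_fin]
  obtain ⟨c, hc⟩ : ∃ c : Perm (Fin 8), c.cycleType = {p} :=
    (Equiv.Perm.exists_with_cycleType_iff _).2 ⟨by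
      simp only [Multiset.sum_singleton, Fintype.card_fin]; omega, by
      intro a ha
      rw [Multiset.mem_singleton] at ha
      rw [ha]
      exact hp.two_le⟩
  have hcy : c.IsCycle := by rw [← card_cycleType_eq_one, hc]; simp
  have hsup : c.support.card = p := by rw [← sum_cycleType, hc]; simp
  have hord : orderOf c = p := by rw [hcy.orderOf, hsup]
  have hcp : IsPGroup p (zpowers c) := by
    refine IsPGroup.of_card (n := 1) ?_
    rw [Nat.card_zpowers, hord, pow_one]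
  obtain ⟨S, hS⟩ := hcp.exists_le_sylow
  obtain ⟨P⟩ : Nonempty (Sylow p L) := inferInstance
  have hcardP : Nat.card ((P : Subgroup L).map L.subtype : Subgroup (Perm (Fin 8))) =
      p ^ (Nat.card (Perm (Fin 8))).factorization p := by
    have h1 : Nat.card ((P : Subgroup L).map L.subtype : Subgroup (Perm (Fin 8))) = Nat.card P :=
      (Nat.card_congr ((P : Subgroup L).equivMapOfInjective L.subtype L.subtype_injective).toEquiv).symm
    rw [h1, P.card_eq_multiplicity]
    congr 1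
    apply le_antisymm
    · exact (Nat.factorization_le_iff_dvd Nat.card_pos.ne' Nat.card_pos.ne').2 L.card_subgroup_dvd_card p
    · rw [hc10]
      exact (hp.pow_dvd_iff_le_factorization Nat.card_pos.ne').1 hd
  obtain ⟨g, hg⟩ := MulAction.exists_smul_eq (Perm (Fin 8)) S (Sylow.ofCard _ hcardP)
  have h2 : g * c * g⁻¹ ∈ L := by
    have h3 : g * c * g⁻¹ ∈ ((Sylow.ofCard _ hcardP : Sylow p (Perm (Fin 8))) : Subgroup (Perm (Fin 8))) := by
      rw [← hg, Sylow.smul_def]
      refine ⟨c, hS (mem_zpowers c), rfl⟩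
    obtain ⟨y, -, hy⟩ := h3
    rw [← hy]
    exact y.2
  apply hn
  refine Cfsg.Agent.S0713.result L hP hp (by simp) (by simp; omega) (g := g * c * g⁻¹) ?_ ?_ h2
  · exact (card_cycleType_eq_one).1 (by rw [cycleType_conj, hc]; simp)
  · rw [card_support_conj, hsup]

theorem not_pow_dvd' {L : Subgroup (Perm (Fin 8))} (hP : MulAction.IsPreprimitive L (Fin 8))
    (hn : ¬ alternatingGroup (Fin 8) ≤ L) {p k : ℕ} (hp : p.Prime) (hp7 : p ≤ 5)
    (hk : ¬ p ^ (k + 1) ∣ Nat.factorial 8) : ¬ p ^ k ∣ Nat.card L := by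
  intro hd
  apply not_pow_dvd hP hn hp hp7
  refine (Nat.pow_dvd_pow p ?_).trans hd
  by_contra hcon
  push Not at hcon
  exact hk ((hp.pow_dvd_iff_le_factorization (Nat.factorial_ne_zero 8)).2 hcon)

/-- the order of a primitive group of degree `8` not containing `A₈` -/
theorem card_dvd {L : Subgroup (Perm (Fin 8))} (hP : MulAction.IsPreprimitive L (Fin 8))
    (hn : ¬ alternatingGroup (Fin 8) ≤ L) : Nat.card L ∣ 1344 := by
  have h5 : ¬ 5 ^ 1 ∣ Nat.card L := not_pow_dvd' hP hn (by norm_num) (by norm_num) (by decide)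
  have h9 : ¬ 3 ^ 2 ∣ Nat.card L := not_pow_dvd' hP hn (by norm_num) (by norm_num) (by decide)
  have h2 : ¬ 2 ^ 7 ∣ Nat.card L := not_pow_dvd' hP hn (by norm_num) (by norm_num) (by decide)
  have hL : Nat.card L ∣ 2 ^ 7 * (3 ^ 2 * (5 * 7)) := by
    have h1 := L.card_subgroup_dvd_card
    rw [Nat.card_perm, Nat.card_fin] at h1
    exact h1
  obtain ⟨y, z, hy, hz, hyz⟩ := Nat.dvd_mul.1 hL
  obtain ⟨z1, z2, hz1, hz2, hz12⟩ := Nat.dvd_mul.1 hz
  obtain ⟨z3, z4, hz3, hz4, hz34⟩ := Nat.dvd_mul.1 hz2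
  obtain ⟨a, ha, rfl⟩ := (Nat.dvd_prime_pow (by norm_num)).1 hy
  obtain ⟨b, hb, rfl⟩ := (Nat.dvd_prime_pow (by norm_num)).1 hz1
  have ha7 : a ≠ 7 := by
    rintro rfl
    exact h2 (Dvd.intro _ hyz)
  have hb2 : b ≠ 2 := by
    rintro rfl
    exact h9 ⟨2 ^ a * z2, by rw [← hyz, ← hz12]; ring⟩
  have hz35 : z3 ≠ 5 := by
    rintro rfl
    exact h5 ⟨2 ^ a * (3 ^ b * z4), by rw [← hyz, ← hz12, ← hz34]; ring⟩
  have hz31 : z3 = 1 := by
    rcases (Nat.dvd_prime (by norm_num)).1 hz3 with h | h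
    · exact h
    · exact absurd h hz35
  rw [← hyz, ← hz12, ← hz34, hz31, one_mul, show (1344 : ℕ) = 2 ^ 6 * (3 ^ 1 * 7) by norm_num]
  exact Nat.mul_dvd_mul (Nat.pow_dvd_pow 2 (by omega)) (Nat.mul_dvd_mul (Nat.pow_dvd_pow 3 (by omega)) hz4)

/-- a nontrivial normal subgroup of a primitive group is transitive -/
theorem trans_of_normal {L : Subgroup (Perm (Fin 8))} (_hP : MulAction.IsPreprimitive L (Fin 8)) (N : Subgroup L)
    (_hN : N.Normal) (hne : N ≠ ⊥) : MulAction.IsPretransitive N (Fin 8) := by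
  apply MulAction.IsQuasiPreprimitive.isPretransitive_of_normal (G := L)
  intro h1
  apply hne
  rw [Subgroup.eq_bot_iff_forall]
  intro g hg
  apply Subtype.ext
  ext i
  have h2 : i ∈ MulAction.fixedPoints N (Fin 8) := by rw [h1]; exact Set.mem_univ i
  have h3 := h2 ⟨g, hg⟩
  rw [show ((⟨g, hg⟩ : N) • i) = (g : Perm (Fin 8)) i from rfl] at h3
  rw [h3]
  rfl

theorem eight_dvd_of_trans {N : Type*} [Group N] [Finite N] [MulAction N (Fin 8)] (h : MulAction.IsPretransitive N (Fin 8)) :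
    8 ∣ Nat.card N := by
  have h1 := MulAction.index_stabilizer_of_transitive N (0 : Fin 8)
  rw [Nat.card_eq_fintype_card, Fintype.card_fin] at h1
  rw [← h1]
  exact Subgroup.index_dvd_card _

/-- transitive groups with corresponding point stabilisers are conjugate -/
theorem conj_of_stab {X₁ X₂ : Subgroup (Perm (Fin 8))} (h1 : MulAction.IsPretransitive X₁ (Fin 8))
    (h2 : MulAction.IsPretransitive X₂ (Fin 8)) (φ : X₁ ≃* X₂) (a b : Fin 8)
    (hst : ∀ x : X₁, (x : Perm (Fin 8)) a = a ↔ ((φ x : X₂) : Perm (Fin 8)) b = b) :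
    ∃ f : Perm (Fin 8), X₂ = X₁.map (MulAut.conj f).toMonoidHom := by
  have hex : ∀ i : Fin 8, ∃ x : X₁, (x : Perm (Fin 8)) a = i := fun i => h1.exists_smul_eq a i
  choose x hx using hex
  let g : Fin 8 → Fin 8 := fun i => ((φ (x i) : X₂) : Perm (Fin 8)) b
  have key : ∀ y z : X₁, (y : Perm (Fin 8)) a = (z : Perm (Fin 8)) a ↔
      ((φ y : X₂) : Perm (Fin 8)) b = ((φ z : X₂) : Perm (Fin 8)) b := by
    intro y z
    have h3 := hst (z⁻¹ * y)
    have e1 : ((z⁻¹ * y : X₁) : Perm (Fin 8)) a = a ↔ (y : Perm (Fin 8)) a = (z : Perm (Fin 8)) a := by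
      show (z : Perm (Fin 8))⁻¹ ((y : Perm (Fin 8)) a) = a ↔ _
      rw [Perm.inv_eq_iff_eq]
    have e2 : ((φ (z⁻¹ * y) : X₂) : Perm (Fin 8)) b = b ↔
        ((φ y : X₂) : Perm (Fin 8)) b = ((φ z : X₂) : Perm (Fin 8)) b := by
      rw [map_mul, map_inv]
      show ((φ z : X₂) : Perm (Fin 8))⁻¹ (((φ y : X₂) : Perm (Fin 8)) b) = b ↔ _
      rw [Perm.inv_eq_iff_eq]
    rw [← e1, ← e2]
    exact h3
  have hgi : Function.Injective g := by
    intro i j hij
    have h3 := (key (x i) (x j)).2 hij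
    rw [hx, hx] at h3
    exact h3
  let f : Perm (Fin 8) := Equiv.ofBijective g (Finite.injective_iff_bijective.1 hgi)
  have hf : ∀ i, f i = ((φ (x i) : X₂) : Perm (Fin 8)) b := fun i => rfl
  have heq : ∀ y : X₁, ((φ y : X₂) : Perm (Fin 8)) * f = f * y := by
    intro y
    ext i
    congr 1
    show ((φ y : X₂) : Perm (Fin 8)) (f i) = f ((y : Perm (Fin 8)) i)
    rw [hf, hf]
    have h3 := (key (y * x i) (x ((y : Perm (Fin 8)) i))).1 (by
      rw [hx]
      show (y : Perm (Fin 8)) ((x i : Perm (Fin 8)) a) = _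
      rw [hx])
    rw [map_mul] at h3
    exact h3
  refine ⟨f, ?_⟩
  ext z
  constructor
  · intro hz
    refine ⟨(φ.symm ⟨z, hz⟩ : X₁), (φ.symm ⟨z, hz⟩).2, ?_⟩
    show f * (φ.symm ⟨z, hz⟩ : X₁) * f⁻¹ = z
    rw [← heq, φ.apply_symm_apply]
    group
  · rintro ⟨y, hy, rfl⟩
    show f * y * f⁻¹ ∈ X₂
    rw [show f * y = ((φ ⟨y, hy⟩ : X₂) : Perm (Fin 8)) * f from (heq ⟨y, hy⟩).symm, mul_inv_cancel_right]
    exact (φ ⟨y, hy⟩).2

/-- the number of conjugates -/
theorem ncard_class_le {G : Type*} [Group G] [Finite G] (X : Subgroup G) :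
    {Y : Subgroup G | ∃ f : G, Y = X.map (MulAut.conj f).toMonoidHom}.ncard ≤ X.index := by
  have h1 : {Y : Subgroup G | ∃ f : G, Y = X.map (MulAut.conj f).toMonoidHom} ⊆
      (fun c : G ⧸ X => X.map (MulAut.conj c.out).toMonoidHom) '' Set.univ := by
    rintro _ ⟨f, rfl⟩
    refine ⟨(f : G ⧸ X), Set.mem_univ _, ?_⟩
    obtain ⟨y, hy⟩ := QuotientGroup.mk_out_eq_mul X f
    show X.map (MulAut.conj (f : G ⧸ X).out).toMonoidHom = _
    rw [hy]
    have key : ∀ (f : G) (y : X), X.map (MulAut.conj (f * y)).toMonoidHom ≤ X.map (MulAut.conj f).toMonoidHom := by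
      rintro f y _ ⟨z, hz, rfl⟩
      refine ⟨y * z * y⁻¹, X.mul_mem (X.mul_mem y.2 hz) (X.inv_mem y.2), ?_⟩
      show f * (y * z * (y : G)⁻¹) * f⁻¹ = f * y * z * (f * y)⁻¹
      group
    apply le_antisymm (key f y)
    have h2 := key (f * y) y⁻¹
    rw [show f * (y : G) * ((y⁻¹ : X) : G) = f by simp] at h2
    exact h2
  refine (Set.ncard_le_ncard h1 (Set.toFinite _)).trans ((Set.ncard_image_le Set.finite_univ).trans ?_)
  rw [Set.ncard_univ]
  exact le_rfl

open scoped Pointwise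

theorem case_orbit {G L : Subgroup (Perm (Fin 8))} (hG : alternatingGroup (Fin 8) ≤ G) (hL : MaxNot G L)
    (ht : ¬ MulAction.IsPretransitive L (Fin 8)) :
    ∃ Δ : Set (Fin 8), L = G ⊓ MulAction.stabilizer (Perm (Fin 8)) Δ := by
  obtain ⟨i, j, hij⟩ : ∃ i j : Fin 8, ∀ g ∈ L, g i ≠ j := by
    by_contra hcon
    push Not at hcon
    apply ht
    refine ⟨fun i j => ?_⟩
    obtain ⟨g, hg, h1⟩ := hcon i j
    exact ⟨⟨g, hg⟩, h1⟩
  refine ⟨{k | ∃ g ∈ L, g i = k}, hL.eq_inf hG ?_ ?_⟩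
  · intro g hg
    rw [MulAction.mem_stabilizer_set]
    intro b
    constructor
    · rintro ⟨h, hh, h1⟩
      refine ⟨g⁻¹ * h, L.mul_mem (L.inv_mem hg) hh, ?_⟩
      rw [Perm.mul_apply, h1, Perm.smul_def]
      exact g.symm_apply_apply b
    · rintro ⟨h, hh, rfl⟩
      exact ⟨g * h, L.mul_mem hg hh, rfl⟩
  · intro hle
    have h1 := alternatingGroup.isPretransitive_of_three_le_card (Fin 8) (by simp)
    obtain ⟨a, ha⟩ := h1.exists_smul_eq i j
    have h2 := MulAction.mem_stabilizer_set.1 (hle a.2) i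
    obtain ⟨g, hg, h3⟩ := h2.2 ⟨1, one_mem _, rfl⟩
    exact hij g hg (h3.trans ha)

theorem case_four {G L : Subgroup (Perm (Fin 8))} (hG : alternatingGroup (Fin 8) ≤ G) (hL : MaxNot G L)
    {B : Set (Fin 8)} (hB : MulAction.IsBlock L B) (h5 : B.ncard = 4) :
    L = G ⊓ MulAction.stabilizer (Perm (Fin 8)) ({B, Bᶜ} : Set (Set (Fin 8))) := by
  have hBc : Bᶜ.ncard = 4 := by
    have := Set.ncard_add_ncard_compl B
    rw [h5, Nat.card_fin] at this
    omega
  refine hL.eq_inf hG ?_ ?_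
  · intro g hg
    rw [MulAction.mem_stabilizer_iff, Set.smul_set_insert, Set.smul_set_singleton, Set.smul_set_compl]
    rcases MulAction.isBlock_iff_smul_eq_or_disjoint.1 hB ⟨g, hg⟩ with h1 | h1
    · have h2 : g • B = B := h1
      rw [h2]
    · have h2 : g • B = Bᶜ := by
        refine Set.eq_of_subset_of_ncard_le (Set.disjoint_left.1 h1) ?_
        rw [hBc, Set.ncard_smul_set, h5]
      rw [h2, compl_compl, Set.pair_comm]
  · intro hle
    have h1 := alternatingGroup.isPreprimitive_of_three_le_card (Fin 8) (by simp)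
    have h2 : MulAction.IsBlock (alternatingGroup (Fin 8)) B := by
      rw [MulAction.isBlock_iff_smul_eq_or_disjoint]
      intro g
      have h3 := MulAction.mem_stabilizer_iff.1 (hle g.2)
      have h4 : (g : Perm (Fin 8)) • B ∈ ({B, Bᶜ} : Set (Set (Fin 8))) := by
        rw [← h3]
        exact Set.smul_mem_smul_set (Set.mem_insert _ _)
      rcases h4 with h4 | h4
      · exact Or.inl h4
      · right
        have h5 : g • B = Bᶜ := h4
        rw [h5]
        exact disjoint_compl_left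
    rcases h1.isTrivialBlock_of_isBlock h2 with h3 | h3
    · have := Set.ncard_le_one_iff_subsingleton.2 h3
      omega
    · rw [h3, Set.ncard_univ, Nat.card_fin] at h5
      omega

theorem case_two {G L : Subgroup (Perm (Fin 8))} (hG : alternatingGroup (Fin 8) ≤ G) (hL : MaxNot G L)
    (ht : MulAction.IsPretransitive L (Fin 8)) {B : Set (Fin 8)} (hB : MulAction.IsBlock L B) (h2 : B.ncard = 2) :
    ∃ τ : Perm (Fin 8), τ.cycleType = Multiset.replicate 4 2 ∧ L = G ⊓ centralizer ({τ} : Set (Perm (Fin 8))) := by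
  obtain ⟨i₀, j₀, hne, rfl⟩ := Set.ncard_eq_two.1 h2
  have hex : ∀ i : Fin 8, ∃ g : L, (g : Perm (Fin 8)) i₀ = i := fun i => ht.exists_smul_eq i₀ i
  choose g hg using hex
  -- the translates
  have hsm : ∀ x : L, x • ({i₀, j₀} : Set (Fin 8)) = {(x : Perm (Fin 8)) i₀, (x : Perm (Fin 8)) j₀} := by
    intro x
    rw [Set.smul_set_insert, Set.smul_set_singleton]
    rfl
  have htr : ∀ x y : L, (∃ k, k ∈ ({(x : Perm (Fin 8)) i₀, (x : Perm (Fin 8)) j₀} : Set (Fin 8)) ∧
      k ∈ ({(y : Perm (Fin 8)) i₀, (y : Perm (Fin 8)) j₀} : Set (Fin 8))) →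
      ({(x : Perm (Fin 8)) i₀, (x : Perm (Fin 8)) j₀} : Set (Fin 8)) = {(y : Perm (Fin 8)) i₀, (y : Perm (Fin 8)) j₀} := by
    rintro x y ⟨k, h3, h4⟩
    by_contra hcon
    rw [← hsm, ← hsm] at hcon
    have h5 := hB hcon
    rw [hsm, hsm] at h5
    exact Set.disjoint_left.1 h5 h3 h4
  have hij : ∀ x : L, (x : Perm (Fin 8)) i₀ ≠ (x : Perm (Fin 8)) j₀ := fun x e => hne ((x : Perm (Fin 8)).injective e)
  let τ : Fin 8 → Fin 8 := fun i => (g i : Perm (Fin 8)) j₀
  have h1 : ∀ x : L, (x : Perm (Fin 8)) j₀ = τ ((x : Perm (Fin 8)) i₀) := by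
    intro x
    have h3 := htr x (g ((x : Perm (Fin 8)) i₀)) ⟨(x : Perm (Fin 8)) i₀, Set.mem_insert _ _, by
      rw [hg]; exact Set.mem_insert _ _⟩
    have h4 : (x : Perm (Fin 8)) j₀ ∈ ({(g ((x : Perm (Fin 8)) i₀) : Perm (Fin 8)) i₀,
      (g ((x : Perm (Fin 8)) i₀) : Perm (Fin 8)) j₀} : Set (Fin 8)) := by
      rw [← h3]; exact Set.mem_insert_of_mem _ rfl
    rcases h4 with h4 | h4
    · rw [hg] at h4
      exact absurd h4.symm (hij x)
    · exact h4
  have h1' : ∀ x : L, (x : Perm (Fin 8)) i₀ = τ ((x : Perm (Fin 8)) j₀) := by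
    intro x
    have h3 := htr x (g ((x : Perm (Fin 8)) j₀)) ⟨(x : Perm (Fin 8)) j₀, Set.mem_insert_of_mem _ rfl, by
      rw [hg]; exact Set.mem_insert _ _⟩
    have h4 : (x : Perm (Fin 8)) i₀ ∈ ({(g ((x : Perm (Fin 8)) j₀) : Perm (Fin 8)) i₀,
      (g ((x : Perm (Fin 8)) j₀) : Perm (Fin 8)) j₀} : Set (Fin 8)) := by
      rw [← h3]; exact Set.mem_insert _ _
    rcases h4 with h4 | h4
    · rw [hg] at h4
      exact absurd h4 (hij x)
    · exact h4
  have hinv : Function.Involutive τ := by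
    intro i
    have h3 := h1' (g i)
    rw [hg] at h3
    exact h3.symm
  have hfix : ∀ i, τ i ≠ i := by
    intro i h3
    have h4 := hij (g i)
    rw [hg] at h4
    exact h4 h3.symm
  let T : Perm (Fin 8) := Function.Involutive.toPerm τ hinv
  have hτ : ∀ i, T i = τ i := fun i => rfl
  refine ⟨T, ?_, hL.eq_inf hG ?_ ?_⟩
  · have hp : Fact (Nat.Prime 2) := ⟨Nat.prime_two⟩
    have h3 : T ^ 2 = 1 := by
      ext i
      rw [pow_two, Perm.mul_apply, hτ, hτ, hinv]
      rfl
    have h4 := cycleType_of_pow_prime_eq_one h3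
    have h5 : T.support = Finset.univ := by
      ext i
      rw [mem_support, hτ]
      simp only [Finset.mem_univ, iff_true]
      exact hfix i
    have h6 := sum_cycleType T
    rw [h5, Finset.card_univ, Fintype.card_fin, h4, Multiset.sum_replicate, smul_eq_mul] at h6
    rw [h4]
    congr 1
    omega
  · intro x hx
    rw [mem_centralizer_singleton_iff]
    ext i
    congr 1
    change x (τ i) = τ (x i)
    have h3 := h1 (⟨x, hx⟩ * g i)
    have h4 : ((⟨x, hx⟩ * g i : L) : Perm (Fin 8)) i₀ = x i := by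
      show x ((g i : Perm (Fin 8)) i₀) = x i
      rw [hg]
    rw [h4] at h3
    exact h3
  · intro hle
    have h3 : T = 1 := by
      apply Cfsg.Agent.StandardComponent.AltAut.eq_one_of_centralizes (m := 6) (by omega)
      intro x
      have h4 := mem_centralizer_singleton_iff.1 (hle x.2)
      rw [mul_inv_eq_iff_eq_mul]
      exact h4.symm
    have h4 := hfix 0
    rw [← hτ, h3] at h4
    exact h4 rfl

/-! ### normalisers -/

theorem not_alt_norm {X : Subgroup (Perm (Fin 8))} (h1 : X ≠ ⊥) (h2 : ¬ alternatingGroup (Fin 8) ≤ X) :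
    ¬ alternatingGroup (Fin 8) ≤ normalizer (X : Set (Perm (Fin 8))) := by
  intro hle
  have hs := alternatingGroup.isSimpleGroup (α := Fin 8) (by simp)
  have hnor : (X.subgroupOf (alternatingGroup (Fin 8))).Normal := by
    constructor
    intro y hy x
    rw [mem_subgroupOf] at hy ⊢
    exact (mem_normalizer_iff.1 (hle x.2) _).1 hy
  rcases hnor.eq_bot_or_eq_top with h3 | h3
  · apply h1
    rw [Subgroup.eq_bot_iff_forall]
    intro x hx
    apply Cfsg.Agent.StandardComponent.AltAut.eq_one_of_centralizes (m := 6) (by omega)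
    intro a
    have h4 : (a : Perm (Fin 8)) * x * (a : Perm (Fin 8))⁻¹ * x⁻¹ ∈ X :=
      X.mul_mem ((mem_normalizer_iff.1 (hle a.2) x).1 hx) (X.inv_mem hx)
    have hn : (alternatingGroup (Fin 8)).Normal := inferInstance
    have h5 : (a : Perm (Fin 8)) * x * (a : Perm (Fin 8))⁻¹ * x⁻¹ ∈ alternatingGroup (Fin 8) := by
      have e1 : (a : Perm (Fin 8)) * x * (a : Perm (Fin 8))⁻¹ * x⁻¹ = a * (x * (a : Perm (Fin 8))⁻¹ * x⁻¹) := by group
      rw [e1]
      exact mul_mem a.2 (hn.conj_mem _ (inv_mem a.2) x)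
    have h6 : (⟨_, h5⟩ : alternatingGroup (Fin 8)) ∈ X.subgroupOf (alternatingGroup (Fin 8)) := mem_subgroupOf.2 h4
    rw [h3, mem_bot] at h6
    have h7 : (a : Perm (Fin 8)) * x * (a : Perm (Fin 8))⁻¹ * x⁻¹ = 1 := Subtype.ext_iff.1 h6
    rw [mul_inv_eq_one, mul_inv_eq_iff_eq_mul] at h7
    rw [mul_inv_eq_iff_eq_mul]
    exact h7.symm
  · rw [subgroupOf_eq_top] at h3
    exact h2 h3

theorem eq_inf_norm {G L X : Subgroup (Perm (Fin 8))} (hG : alternatingGroup (Fin 8) ≤ G) (hL : MaxNot G L)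
    (hX : X ≤ L) (h1 : X ≠ ⊥) (hn : ∀ g ∈ L, ∀ x ∈ X, g * x * g⁻¹ ∈ X) :
    L = G ⊓ normalizer (X : Set (Perm (Fin 8))) := by
  refine hL.eq_inf hG ?_ (not_alt_norm h1 fun h => hL.nalt (h.trans hX))
  intro x hx
  rw [mem_normalizer_iff]
  intro y
  constructor
  · intro hy
    exact hn x hx y hy
  · intro hy
    have h3 := hn _ (L.inv_mem hx) _ hy
    have e1 : x⁻¹ * (x * y * x⁻¹) * x⁻¹⁻¹ = y := by group
    rwa [e1] at h3

/-! ### regular elementary abelian subgroups -/

/-- the transitive elementary abelian `2`-subgroups -/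
def EE : Set (Subgroup (Perm (Fin 8))) :=
  {X | MulAction.IsPretransitive X (Fin 8) ∧ (∀ x ∈ X, ∀ y ∈ X, x * y = y * x) ∧ ∀ x ∈ X, x * x = 1}

theorem EE.eq_one {X : Subgroup (Perm (Fin 8))} (hX : X ∈ EE) {x : Perm (Fin 8)} (hx : x ∈ X) {i : Fin 8} (hi : x i = i) :
    x = 1 := by
  ext j
  obtain ⟨y, hy⟩ := hX.1.exists_smul_eq i j
  have h1 : (y : Perm (Fin 8)) i = j := hy
  have h2 : x ((y : Perm (Fin 8)) i) = (y : Perm (Fin 8)) (x i) := by
    rw [← Perm.mul_apply, hX.2.1 x hx y y.2, Perm.mul_apply]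
  rw [← h1, h2, hi, Perm.one_apply]

theorem EE.card {X : Subgroup (Perm (Fin 8))} (hX : X ∈ EE) : Nat.card X = 8 := by
  have := hX.1
  have h1 := MulAction.index_stabilizer_of_transitive X (0 : Fin 8)
  have h2 : MulAction.stabilizer X (0 : Fin 8) = ⊥ := by
    rw [Subgroup.eq_bot_iff_forall]
    intro x hx
    exact Subtype.ext (EE.eq_one hX x.2 (i := 0) hx)
  rw [h2, index_bot, Nat.card_fin] at h1
  exact h1

theorem EE.ne_bot {X : Subgroup (Perm (Fin 8))} (hX : X ∈ EE) : X ≠ ⊥ := by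
  rintro rfl
  have := EE.card hX
  rw [card_bot] at this
  omega

theorem elemAb_equiv {A B : Type*} [Group A] [Group B] [Finite A] [Finite B] (hA : ∀ x y : A, x * y = y * x)
    (hA2 : ∀ x : A, x * x = 1) (hB : ∀ x y : B, x * y = y * x) (hB2 : ∀ x : B, x * x = 1)
    (hc : Nat.card A = Nat.card B) : Nonempty (A ≃* B) := by
  classical
  let iA : CommGroup A := { (inferInstance : Group A) with mul_comm := hA }
  let iB : CommGroup B := { (inferInstance : Group B) with mul_comm := hB }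
  let mA : Module (ZMod 2) (Additive A) := AddCommGroup.zmodModule (n := 2) fun x => by
    rw [two_nsmul]
    exact hA2 x
  let mB : Module (ZMod 2) (Additive B) := AddCommGroup.zmodModule (n := 2) fun x => by
    rw [two_nsmul]
    exact hB2 x
  have : Fact (Nat.Prime 2) := ⟨Nat.prime_two⟩
  have : Finite (Additive A) := inferInstanceAs (Finite A)
  have : Finite (Additive B) := inferInstanceAs (Finite B)
  have : Fintype (Additive A) := Fintype.ofFinite _
  have : Fintype (Additive B) := Fintype.ofFinite _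
  have : Module.Finite (ZMod 2) (Additive A) := Module.Finite.of_finite
  have : Module.Finite (ZMod 2) (Additive B) := Module.Finite.of_finite
  have h1 := Module.card_eq_pow_finrank (K := ZMod 2) (V := Additive A)
  have h2 := Module.card_eq_pow_finrank (K := ZMod 2) (V := Additive B)
  rw [← Nat.card_eq_fintype_card, ZMod.card] at h1 h2
  have h3 : Nat.card (Additive A) = Nat.card (Additive B) := hc
  rw [h1, h2] at h3
  have h4 := Nat.pow_right_injective le_rfl h3
  obtain ⟨e⟩ := FiniteDimensional.nonempty_linearEquiv_of_finrank_eq h4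
  exact ⟨MulEquiv.toAdditive.symm e.toAddEquiv⟩

theorem ncard_EE : EE.ncard ≤ 5040 := by
  rcases Set.eq_empty_or_nonempty EE with h0 | ⟨X₁, h1⟩
  · rw [h0, Set.ncard_empty]
    exact Nat.zero_le _
  have hsub : EE ⊆ {Y | ∃ f : Perm (Fin 8), Y = X₁.map (MulAut.conj f).toMonoidHom} := by
    intro X₂ h2
    obtain ⟨φ⟩ := elemAb_equiv (A := X₁) (B := X₂) (fun x y => Subtype.ext (h1.2.1 x x.2 y y.2))
      (fun x => Subtype.ext (h1.2.2 x x.2)) (fun x y => Subtype.ext (h2.2.1 x x.2 y y.2))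
      (fun x => Subtype.ext (h2.2.2 x x.2)) (by rw [EE.card h1, EE.card h2])
    refine conj_of_stab h1.1 h2.1 φ 0 0 ?_
    intro x
    constructor
    · intro h3
      have h4 : x = 1 := Subtype.ext (EE.eq_one h1 x.2 h3)
      rw [h4, map_one]
      rfl
    · intro h3
      have h4 : φ x = 1 := Subtype.ext (EE.eq_one h2 (φ x).2 h3)
      rw [map_eq_one_iff φ φ.injective] at h4
      rw [h4]
      rfl
  refine (Set.ncard_le_ncard hsub (Set.toFinite _)).trans ((ncard_class_le X₁).trans ?_)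
  have h3 := X₁.index_mul_card
  rw [Nat.card_perm, Nat.card_fin, EE.card h1] at h3
  have h4 : Nat.factorial 8 = 40320 := by decide
  omega

/-- a primitive solvable group -/
theorem exists_EE {L : Subgroup (Perm (Fin 8))} (hP : MulAction.IsPreprimitive L (Fin 8)) (hs : Group.IsSolvable L) :
    ∃ X ∈ EE, X ≤ L ∧ ∀ g ∈ L, ∀ x ∈ X, g * x * g⁻¹ ∈ X := by
  classical
  -- an abelian normal subgroup
  have h0 : derivedSeries L (Nat.find hs.solvable) = ⊥ := Nat.find_spec hs.solvable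
  have hL1 : Nontrivial L := by
    by_contra hcon
    rw [not_nontrivial_iff_subsingleton] at hcon
    have h1 := eight_dvd_of_trans hP.toIsPretransitive
    rw [Nat.card_eq_one_iff_unique.2 ⟨hcon, inferInstance⟩] at h1
    omega
  have hpos : 0 < Nat.find hs.solvable := by
    by_contra hcon
    have h1 : Nat.find hs.solvable = 0 := by omega
    rw [h1, derivedSeries_zero] at h0
    exact bot_ne_top h0.symm
  obtain ⟨n, hn⟩ : ∃ n, Nat.find hs.solvable = n + 1 := ⟨Nat.find hs.solvable - 1, by omega⟩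
  have hA : derivedSeries L n ≠ ⊥ := Nat.find_min hs.solvable (by omega)
  rw [hn, derivedSeries_succ] at h0
  have hcomm : ∀ x ∈ derivedSeries L n, ∀ y ∈ derivedSeries L n, x * y = y * x := by
    intro x hx y hy
    have h1 : ⁅x, y⁆ ∈ (⊥ : Subgroup L) := by
      rw [← h0]
      exact commutator_mem_commutator hx hy
    rw [mem_bot, commutatorElement_eq_one_iff_mul_comm] at h1
    exact h1
  have hAn : (derivedSeries L n).Normal := inferInstance
  have h8 : 8 ∣ Nat.card (derivedSeries L n) := eight_dvd_of_trans (trans_of_normal hP _ hAn hA)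
  -- its elements of order two
  let E : Subgroup L :=
    { carrier := {x | x ∈ derivedSeries L n ∧ x * x = 1}
      one_mem' := ⟨one_mem _, one_mul 1⟩
      mul_mem' := by
        rintro x y ⟨hx, hx2⟩ ⟨hy, hy2⟩
        refine ⟨mul_mem hx hy, ?_⟩
        have e1 : x * y * (x * y) = x * (y * x) * y := by group
        rw [e1, ← hcomm x hx y hy]
        have e2 : x * (x * y) * y = (x * x) * (y * y) := by group
        rw [e2, hx2, hy2, one_mul]
      inv_mem' := by
        rintro x ⟨hx, hx2⟩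
        refine ⟨inv_mem hx, ?_⟩
        rw [← mul_inv_rev, hx2, inv_one] }
  have hE : ∀ x : L, x ∈ E ↔ x ∈ derivedSeries L n ∧ x * x = 1 := fun x => Iff.rfl
  have hEn : E.Normal := by
    constructor
    intro x hx g
    rw [hE] at hx ⊢
    refine ⟨hAn.conj_mem x hx.1 g, ?_⟩
    have e1 : g * x * g⁻¹ * (g * x * g⁻¹) = g * (x * x) * g⁻¹ := by group
    rw [e1, hx.2, mul_one, mul_inv_cancel]
  have hEne : E ≠ ⊥ := by
    intro h1
    have : Fact (Nat.Prime 2) := ⟨Nat.prime_two⟩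
    obtain ⟨t, ht⟩ := exists_prime_orderOf_dvd_card' 2 ((by norm_num : (2 : ℕ) ∣ 8).trans h8)
    have h2 : (t : L) ∈ E := by
      rw [hE]
      refine ⟨t.2, ?_⟩
      have h3 := pow_orderOf_eq_one t
      rw [ht, pow_two] at h3
      exact congrArg Subtype.val h3
    rw [h1, mem_bot] at h2
    have h3 : t = 1 := Subtype.ext h2
    rw [h3, orderOf_one] at ht
    omega
  have hEt := trans_of_normal hP E hEn hEne
  refine ⟨E.map L.subtype, ⟨?_, ?_, ?_⟩, map_subtype_le E, ?_⟩
  · refine ⟨fun i j => ?_⟩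
    obtain ⟨x, hx⟩ := hEt.exists_smul_eq i j
    exact ⟨⟨((x : L) : Perm (Fin 8)), (x : L), x.2, rfl⟩, hx⟩
  · rintro _ ⟨x, hx, rfl⟩ _ ⟨y, hy, rfl⟩
    exact congrArg Subtype.val (hcomm x hx.1 y hy.1)
  · rintro _ ⟨x, hx, rfl⟩
    exact congrArg Subtype.val hx.2
  · rintro g hg _ ⟨x, hx, rfl⟩
    exact ⟨⟨g, hg⟩ * x * ⟨g, hg⟩⁻¹, hEn.conj_mem x hx ⟨g, hg⟩, rfl⟩

end Cfsg.Agent.H417.EP.A8
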