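import Mathlib

/-!
# S3499 (IV-L), `soc(A) = A₆`: counts in `A₆` (helper417)
-/

set_option autoImplicit false

namespace Cfsg.Agent.H417.EP.Six

open Equiv Equiv.Perm Subgroup

abbrev A6 := alternatingGroup (Fin 6)

theorem card_A6 : Nat.card A6 = 360 := by
  have h : 2 * Nat.card A6 = Nat.card (Perm (Fin 6)) := two_mul_nat_card_alternatingGroup (α := Fin 6)
  rw [Nat.card_eq_fintype_card (α := Perm (Fin 6)), Fintype.card_perm, Fintype.card_fin] at h
  have h1 : Nat.factorial 6 = 720 := by decide
  omega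

theorem type_prime {p : ℕ} [hp : Fact p.Prime] {a : A6} (ha : a ≠ 1) (h2 : a ^ p = 1) :
    ∃ k, k ≠ 0 ∧ k * p ≤ 6 ∧ (a : Perm (Fin 6)).cycleType = Multiset.replicate k p := by
  have h3 : (a : Perm (Fin 6)) ^ p = 1 := congrArg Subtype.val h2
  have h4 := cycleType_of_pow_prime_eq_one h3
  refine ⟨_, ?_, ?_, h4⟩
  · intro h
    rw [Multiset.card_eq_zero, cycleType_eq_zero] at h
    exact ha (Subtype.ext h)
  · have h5 : (a : Perm (Fin 6)).support.card ≤ 6 := by
      have := (a : Perm (Fin 6)).support.card_le_univ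
      rwa [Fintype.card_fin] at this
    have h6 := sum_cycleType (a : Perm (Fin 6))
    rw [h4, Multiset.sum_replicate, smul_eq_mul] at h6
    rw [h6]
    exact h5

/-- even involutions -/
theorem type_two {a : A6} (ha : a ≠ 1) (h2 : a ^ 2 = 1) : (a : Perm (Fin 6)).cycleType = Multiset.replicate 2 2 := by
  have : Fact (Nat.Prime 2) := ⟨Nat.prime_two⟩
  obtain ⟨k, h0, h6, h4⟩ := type_prime ha h2
  have h7 : sign (a : Perm (Fin 6)) = 1 := mem_alternatingGroup.1 a.2
  rw [sign_of_cycleType, h4, Multiset.sum_replicate, Multiset.card_replicate, smul_eq_mul] at h7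
  have hk3 : k ≤ 3 := by omega
  rw [h4]
  interval_cases k
  · exact absurd rfl h0
  · exact absurd h7 (by decide)
  · rfl
  · exact absurd h7 (by decide)

theorem ncard_type (k p : ℕ) :
    {x : A6 | (x : Perm (Fin 6)).cycleType = Multiset.replicate k p}.ncard ≤
      (Finset.univ.filter fun x : Perm (Fin 6) => x.cycleType = Multiset.replicate k p).card := by
  rw [← Set.ncard_coe_finset, Finset.coe_filter_univ]
  exact Set.ncard_le_ncard_of_injOn (fun x : A6 => (x : Perm (Fin 6))) (fun x hx => hx)
    (fun x _ y _ h => Subtype.ext h) (Set.toFinite _)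

theorem count_two : (Finset.univ.filter fun x : Perm (Fin 6) => x.cycleType = Multiset.replicate 2 2).card = 45 := by
  have h1 := Equiv.Perm.card_of_cycleType (Fin 6) (Multiset.replicate 2 2)
  rw [if_pos ⟨by simp, fun a ha => (Multiset.eq_of_mem_replicate ha).ge⟩] at h1
  rw [h1, Fintype.card_fin, Multiset.sum_replicate, Multiset.prod_replicate, Multiset.toFinset_replicate,
      if_neg (by norm_num), Finset.prod_singleton, Multiset.count_replicate_self]
  norm_num [Nat.factorial]

theorem count_three : (Finset.univ.filter fun x : Perm (Fin 6) => x.cycleType = Multiset.replicate 1 3).card = 40 := by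
  have h1 := Equiv.Perm.card_of_cycleType (Fin 6) (Multiset.replicate 1 3)
  rw [if_pos ⟨by simp, fun a ha => by rw [Multiset.eq_of_mem_replicate ha]; norm_num⟩] at h1
  rw [h1, Fintype.card_fin, Multiset.sum_replicate, Multiset.prod_replicate, Multiset.toFinset_replicate,
      if_neg (by norm_num), Finset.prod_singleton, Multiset.count_replicate_self]
  norm_num [Nat.factorial]

theorem count_three' : (Finset.univ.filter fun x : Perm (Fin 6) => x.cycleType = Multiset.replicate 2 3).card = 40 := by
  have h1 := Equiv.Perm.card_of_cycleType (Fin 6) (Multiset.replicate 2 3)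
  rw [if_pos ⟨by simp, fun a ha => by rw [Multiset.eq_of_mem_replicate ha]; norm_num⟩] at h1
  rw [h1, Fintype.card_fin, Multiset.sum_replicate, Multiset.prod_replicate, Multiset.toFinset_replicate,
      if_neg (by norm_num), Finset.prod_singleton, Multiset.count_replicate_self]
  norm_num [Nat.factorial]

theorem ncard_two : {x : A6 | x ≠ 1 ∧ x ^ 2 = 1}.ncard ≤ 45 := by
  refine le_trans (Set.ncard_le_ncard ?_ (Set.toFinite _)) ((ncard_type 2 2).trans (le_of_eq count_two))
  rintro x ⟨h1, h2⟩
  exact type_two h1 h2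

theorem ncard_three : {x : A6 | x ≠ 1 ∧ x ^ 3 = 1}.ncard ≤ 80 := by
  have : Fact (Nat.Prime 3) := ⟨Nat.prime_three⟩
  have hsub : {x : A6 | x ≠ 1 ∧ x ^ 3 = 1} ⊆ {x : A6 | (x : Perm (Fin 6)).cycleType = Multiset.replicate 1 3} ∪
      {x : A6 | (x : Perm (Fin 6)).cycleType = Multiset.replicate 2 3} := by
    rintro x ⟨h1, h2⟩
    obtain ⟨k, h0, h6, h4⟩ := type_prime h1 h2
    have hk : k = 1 ∨ k = 2 := by omega
    rcases hk with rfl | rfl
    · exact Or.inl h4
    · exact Or.inr h4
  have h1 := Set.ncard_le_ncard hsub (Set.toFinite _)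
  have h2 := Set.ncard_union_le {x : A6 | (x : Perm (Fin 6)).cycleType = Multiset.replicate 1 3}
    {x : A6 | (x : Perm (Fin 6)).cycleType = Multiset.replicate 2 3}
  have h3 := ncard_type 1 3
  have h4 := ncard_type 2 3
  rw [count_three] at h3
  rw [count_three'] at h4
  omega

theorem ncard_cent {a : A6} (ha : a ≠ 1) (h2 : a ^ 2 = 1) : {b : A6 | a * b = b * a}.ncard ≤ 8 := by
  have ht := type_two ha h2
  have hC : Nat.card (centralizer ({(a : Perm (Fin 6))} : Set (Perm (Fin 6)))) = 16 := by
    rw [nat_card_centralizer, ht, Fintype.card_fin, Multiset.sum_replicate, Multiset.prod_replicate,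
      Multiset.toFinset_replicate, if_neg (by norm_num), Finset.prod_singleton, Multiset.count_replicate_self]
    norm_num [Nat.factorial]
  have haa : ∀ i, (a : Perm (Fin 6)) ((a : Perm (Fin 6)) i) = i := by
    intro i
    have h3 : (a : Perm (Fin 6)) ^ 2 = 1 := congrArg Subtype.val h2
    rw [pow_two] at h3
    rw [← Perm.mul_apply, h3, Perm.one_apply]
  obtain ⟨x, hx⟩ : ∃ x, (a : Perm (Fin 6)) x ≠ x := by
    by_contra hcon
    push Not at hcon
    exact ha (Subtype.ext (Equiv.ext hcon))
  set c : Perm (Fin 6) := swap x ((a : Perm (Fin 6)) x) with hc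
  have hcodd : sign c = -1 := sign_swap hx.symm
  have hcc : (a : Perm (Fin 6)) * c = c * a := by
    have h3 := mul_swap_eq_swap_mul (a : Perm (Fin 6)) x ((a : Perm (Fin 6)) x)
    rw [haa, swap_comm ((a : Perm (Fin 6)) x) x] at h3
    exact h3
  let f : ({b : A6 | a * b = b * a} ⊕ {b : A6 | a * b = b * a}) → centralizer ({(a : Perm (Fin 6))} : Set (Perm (Fin 6))) :=
    fun s => match s with
    | Sum.inl b => ⟨((b : A6) : Perm (Fin 6)), by
        rw [mem_centralizer_singleton_iff]
        exact (congrArg Subtype.val b.2).symm⟩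
    | Sum.inr b => ⟨c * ((b : A6) : Perm (Fin 6)), by
        rw [mem_centralizer_singleton_iff]
        have h3 : (a : Perm (Fin 6)) * ((b : A6) : Perm (Fin 6)) = ((b : A6) : Perm (Fin 6)) * a :=
          congrArg Subtype.val b.2
        rw [mul_assoc, ← h3, ← mul_assoc, ← hcc, mul_assoc]⟩
  have hf : Function.Injective f := by
    have hev : ∀ b : A6, sign (b : Perm (Fin 6)) = 1 := fun b => mem_alternatingGroup.1 b.2
    have hv : ∀ s s', f s = f s' → (f s : Perm (Fin 6)) = (f s' : Perm (Fin 6)) := fun s s' h => by rw [h]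
    rintro (b | b) (b' | b') h
    · have h3 : ((b : A6) : Perm (Fin 6)) = ((b' : A6) : Perm (Fin 6)) := hv (Sum.inl b) (Sum.inl b') h
      rw [Subtype.ext (Subtype.ext h3)]
    · exfalso
      have h3 : ((b : A6) : Perm (Fin 6)) = c * ((b' : A6) : Perm (Fin 6)) := hv (Sum.inl b) (Sum.inr b') h
      have h4 := congrArg sign h3
      rw [map_mul, hev, hev, hcodd] at h4
      exact absurd h4 (by decide)
    · exfalso
      have h3 : c * ((b : A6) : Perm (Fin 6)) = ((b' : A6) : Perm (Fin 6)) := hv (Sum.inr b) (Sum.inl b') h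
      have h4 := congrArg sign h3
      rw [map_mul, hev, hev, hcodd] at h4
      exact absurd h4 (by decide)
    · have h3 : c * ((b : A6) : Perm (Fin 6)) = c * ((b' : A6) : Perm (Fin 6)) := hv (Sum.inr b) (Sum.inr b') h
      rw [Subtype.ext (Subtype.ext (mul_left_cancel h3))]
  have h3 := Nat.card_le_card_of_injective f hf
  rw [Nat.card_sum, hC, Nat.card_coe_set_eq] at h3
  omega

end Cfsg.Agent.H417.EP.Six
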