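import Cfsg.Agent.H417.EP.ElevenAdm
import Cfsg.Agent.H417.EP.ASixK
import Cfsg.Agent.H220.EP.PermSeven
import Cfsg.Agent.S0254
import Cfsg.Agent.H281.Reg.Small
import Cfsg.Agent.S0813
import Cfsg.Agent.S0265

/-!
# S3499 (IV-L), `soc(A) = A₆`: the admissible subgroups of `A₆` (helper417)
-/

set_option autoImplicit false

namespace Cfsg.Agent.H417.EP.Six

open Subgroup Equiv Equiv.Perm
open Cfsg.Agent.H417.EP.Eleven (D card_filter_univ type_le pairs pairs_a5 a5_le comm_of_cyclic)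

instance simple_A6 : IsSimpleGroup A6 := alternatingGroup.isSimpleGroup (by simp)

theorem two_le : (D A6 2).ncard ≤ 45 := ncard_two

theorem three_le : (D A6 3).ncard ≤ 80 := ncard_three

theorem cent_le {a : A6} (ha : a ≠ 1) (h2 : a ^ 2 = 1) : {b : A6 | a * b = b * a}.ncard ≤ 8 := ncard_cent ha h2

theorem ncomm : ∃ a b : A6, a * b ≠ b * a := by
  by_contra hcon
  push Not at hcon
  have hm : (swap 0 1 * swap 2 3 : Perm (Fin 6)) ∈ alternatingGroup (Fin 6) := by
    rw [mem_alternatingGroup]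
    decide
  have h1 := cent_le (a := ⟨swap 0 1 * swap 2 3, hm⟩) (by
    intro h
    have h0 : (swap 0 1 * swap 2 3 : Perm (Fin 6)) = 1 := congrArg Subtype.val h
    exact absurd h0 (by decide)) (by
    apply Subtype.ext
    show (swap 0 1 * swap 2 3 : Perm (Fin 6)) ^ 2 = 1
    decide)
  have h2 : {b : A6 | (⟨swap 0 1 * swap 2 3, hm⟩ : A6) * b = b * ⟨swap 0 1 * swap 2 3, hm⟩} = Set.univ := by
    ext b
    exact ⟨fun _ => Set.mem_univ b, fun _ => hcon _ b⟩
  rw [h2, Set.ncard_univ, card_A6] at h1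
  omega

theorem index_of {K : Subgroup A6} {c d : ℕ} (hK : Nat.card K = c) (hc : c * d = 360) : K.index = d := by
  have h1 := K.card_mul_index
  rw [card_A6, hK, ← hc] at h1
  rcases Nat.eq_zero_or_pos c with h2 | h2
  · rw [h2] at hc; omega
  · exact Nat.eq_of_mul_eq_mul_left h2 h1

theorem comm_of_equiv {L : Type*} [Group L] {K : Subgroup L} {X : Type*} [Group X] (e : K ≃* X)
    (hX : ∀ a b : X, a * b = b * a) : ∀ a ∈ K, ∀ b ∈ K, a * b = b * a := by
  intro a ha b hb
  have h1 : (⟨a, ha⟩ : K) * ⟨b, hb⟩ = ⟨b, hb⟩ * ⟨a, ha⟩ := by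
    apply e.injective
    rw [map_mul, map_mul, hX]
  exact Subtype.ext_iff.1 h1

theorem card_dvd_factorial {G : Type*} [Group G] [Finite G] [IsSimpleGroup G] {H : Subgroup G} (hH : H ≠ ⊤) :
    Nat.card G ∣ (H.index).factorial := by
  have h1 : (MulAction.toPermHom G (G ⧸ H)).ker = ⊥ := by
    rcases (inferInstance : (MulAction.toPermHom G (G ⧸ H)).ker.Normal).eq_bot_or_eq_top with h | h
    · exact h
    · exfalso
      apply hH
      rw [← Subgroup.normalCore_eq_ker] at h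
      rw [eq_top_iff, ← h]
      exact Subgroup.normalCore_le H
  have h2 := Subgroup.card_dvd_of_injective _ ((MonoidHom.ker_eq_bot_iff _).1 h1)
  rw [Nat.card_perm] at h2
  exact h2

theorem card_norm_dvd {G : Type*} [Group G] [Finite G] (f : G ≃* A6) (P : Sylow 3 G) :
    Nat.card P = 9 ∧ Nat.card (normalizer (P : Set G)) ∣ 36 := by
  have hG : Nat.card G = 360 := by rw [Nat.card_congr f.toEquiv, card_A6]
  have hs : IsSimpleGroup G := f.isSimpleGroup
  have hf : (360 : ℕ).factorization 3 = 2 := by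
    rw [show (360 : ℕ) = 3 ^ 2 * 40 from rfl, Nat.factorization_mul (by norm_num) (by norm_num), Finsupp.add_apply,
      Nat.Prime.factorization_pow Nat.prime_three, Finsupp.single_eq_same,
      Nat.factorization_eq_zero_of_not_dvd (by norm_num)]
  have hPc : Nat.card P = 9 := by rw [P.card_eq_multiplicity, hG, hf]; norm_num
  refine ⟨hPc, ?_⟩
  have h1 : Nat.card (Sylow 3 G) ∣ P.index := P.card_dvd_index
  have h2 : P.index = 40 := by
    have h := (P : Subgroup G).card_mul_index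
    have h' : Nat.card (P : Subgroup G) = 9 := hPc
    rw [hG, h'] at h
    have h'' : (P : Subgroup G).index = 40 := by omega
    exact h''
  have h3 : Nat.card (Sylow 3 G) ≡ 1 [MOD 3] := card_sylow_modEq_one 3 G
  have h4 := P.card_eq_index_normalizer
  rw [h2] at h1
  have h5 : Nat.card (Sylow 3 G) ≤ 40 := Nat.le_of_dvd (by norm_num) h1
  have h7 := (normalizer ((P : Subgroup G) : Set G)).card_mul_index
  have h6 : Nat.card (Sylow 3 G) = 1 ∨ Nat.card (Sylow 3 G) = 4 ∨ Nat.card (Sylow 3 G) = 10 ∨ Nat.card (Sylow 3 G) = 40 := by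
    generalize Nat.card (Sylow 3 G) = n at *
    interval_cases n <;> first | omega | (exfalso; revert h3; decide)
  have hnt : normalizer ((P : Subgroup G) : Set G) ≠ ⊤ := by
    intro h8
    have h9 : (P : Subgroup G).Normal := Subgroup.normalizer_eq_top_iff.1 h8
    have h10 : Nat.card (P : Subgroup G) = 9 := hPc
    rcases h9.eq_bot_or_eq_top with h9 | h9
    · rw [h9, Subgroup.card_bot] at h10
      omega
    · rw [h9, Subgroup.card_top, hG] at h10
      omega
  have h8 := card_dvd_factorial hnt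
  have h9 : (normalizer ((P : Subgroup G) : Set G)).index = Nat.card (Sylow 3 G) := h4.symm
  show Nat.card (normalizer ((P : Subgroup G) : Set G)) ∣ 36
  rw [h9, hG] at h8
  rw [h9, hG] at h7
  rcases h6 with h6 | h6 | h6 | h6
  · exfalso
    rw [h6] at h8
    revert h8
    decide
  · exfalso
    rw [h6] at h8
    revert h8
    decide
  · rw [h6] at h7
    have : Nat.card (normalizer ((P : Subgroup G) : Set G)) = 36 := by omega
    rw [this]
  · rw [h6] at h7
    have : Nat.card (normalizer ((P : Subgroup G) : Set G)) = 9 := by omega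
    rw [this]
    norm_num

/-- the isomorphism types -/
def Ty (K : Subgroup A6) : Prop :=
  Nonempty (K ≃* DihedralGroup 4) ∨ Nonempty (K ≃* DihedralGroup 5) ∨ Nonempty (K ≃* Perm (Fin 4)) ∨
    Nonempty (K ≃* alternatingGroup (Fin 5)) ∨ (Nat.card K = 36 ∧ ∃ R : Subgroup A6, (∀ y, y ∈ R ↔ y ∈ K ∧ ∃ k : ℕ, y ^ (3 ^ k) = 1) ∧ R ≠ ⊥)

theorem adm_ty {K : Subgroup A6} (hK : Adm K) : Ty K := by
  classical
  have hnc : ¬ ∀ a ∈ K, ∀ b ∈ K, a * b = b * a := hK.not_comm ncomm
  have hdvd : Nat.card K ∣ 360 := by rw [← card_A6]; exact Subgroup.card_subgroup_dvd_card K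
  have : Fact (Nat.Prime 3) := ⟨Nat.prime_three⟩
  let F := GaloisField 3 2
  have : Finite F := inferInstanceAs (Finite (GaloisField 3 2))
  have : Fintype F := Fintype.ofFinite F
  have hF : Fintype.card F = 9 := by
    rw [← Nat.card_eq_fintype_card, GaloisField.card 3 2 two_ne_zero]
    norm_num
  obtain ⟨f⟩ := Cfsg.Agent.S0254.result hF
  let K' : Subgroup (Matrix.ProjectiveSpecialLinearGroup (Fin 2) F) := K.map f.symm.toMonoidHom
  let e0 : K ≃* K' := K.equivMapOfInjective f.symm.toMonoidHom f.symm.injective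
  have hD : ∀ k : ℕ, (k ∣ 5 ∨ k ∣ 4) → Nonempty (K' ≃* DihedralGroup k) → Ty K := by
    rintro k hk ⟨e⟩
    have hk' : k = 1 ∨ k = 2 ∨ k = 4 ∨ k = 5 := by
      rcases hk with h | h
      · have := Nat.le_of_dvd (by norm_num) h
        interval_cases k <;> omega
      · have := Nat.le_of_dvd (by norm_num) h
        interval_cases k <;> omega
    rcases hk' with rfl | rfl | rfl | rfl
    · exact absurd (comm_of_equiv (e0.trans e) (by decide +kernel)) hnc
    · exact absurd (comm_of_equiv (e0.trans e) (by decide +kernel)) hnc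
    · exact Or.inl ⟨e0.trans e⟩
    · exact Or.inr (Or.inl ⟨e0.trans e⟩)
  have hA4 : Nonempty (K ≃* alternatingGroup (Fin 4)) → Ty K := by
    rintro ⟨e⟩
    exfalso
    have cA4 : Nat.card (alternatingGroup (Fin 4)) = 12 := by
      rw [Nat.card_eq_fintype_card]; decide +kernel
    obtain ⟨R, hR, hne, -⟩ := exists_sylow_of_card e (r := 2) (k := 2) (m := 3) Nat.prime_two
      (by rw [cA4]; rfl) (by norm_num) two_ne_zero
      (by rw [← card_filter_univ]; decide +kernel)
    have h1 := hK.modEq Nat.prime_two hR hne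
    rw [index_of (c := 12) (d := 30) (by rw [Nat.card_congr e.toEquiv, cA4]) (by norm_num)] at h1
    exact absurd h1 (by decide)
  rcases Cfsg.Agent.S0799.result (F := F) (q := 9) hF 3 K' with
    ⟨k, hk, ⟨hc, -⟩ | h⟩ | ⟨P, K2, hK2, ⟨e⟩⟩ | ⟨⟨e⟩⟩ | ⟨⟨e⟩⟩ | ⟨⟨e⟩⟩ | ⟨E, _, _, m, hm, h⟩
  · refine absurd ?_ hnc
    intro a ha b hb
    have h1 : (⟨a, ha⟩ : K) * ⟨b, hb⟩ = ⟨b, hb⟩ * ⟨a, ha⟩ := by
      apply e0.injective
      rw [map_mul, map_mul]
      exact hc.isMulCommutative.is_comm.comm _ _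
    exact Subtype.ext_iff.1 h1
  · exact hD k (by simpa using hk) h
  · obtain ⟨hP9, hN36⟩ := card_norm_dvd f P
    have e1 : K ≃* K2 := e0.trans e
    have hKc : Nat.card K = Nat.card K2 := Nat.card_congr e1.toEquiv
    have hK36 : Nat.card K2 ∣ 36 := (Subgroup.card_dvd_of_le hK2).trans hN36
    -- the 3-elements of `K2`
    have h3el : ∀ (k : ℕ) (y : K2), y ^ (3 ^ k) = 1 → (y : Matrix.ProjectiveSpecialLinearGroup (Fin 2) F) ∈
        ((P : Subgroup _) ⊓ K2 : Subgroup (Matrix.ProjectiveSpecialLinearGroup (Fin 2) F)) := by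
      intro k y hy
      refine ⟨?_, y.2⟩
      have hy' : (y : Matrix.ProjectiveSpecialLinearGroup (Fin 2) F) ^ (3 ^ k) = 1 := congrArg Subtype.val hy
      have h1 : IsPGroup 3 (zpowers (y : Matrix.ProjectiveSpecialLinearGroup (Fin 2) F)) := by
        rintro ⟨z, n, rfl⟩
        refine ⟨k, Subtype.ext ?_⟩
        show ((y : Matrix.ProjectiveSpecialLinearGroup (Fin 2) F) ^ n) ^ (3 ^ k) = 1
        rw [← zpow_natCast, ← zpow_mul, mul_comm, zpow_mul, zpow_natCast, hy', one_zpow]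
      have h2 := h1.inf_normalizer_sylow P
      have h4 : (y : Matrix.ProjectiveSpecialLinearGroup (Fin 2) F) ∈
          zpowers (y : Matrix.ProjectiveSpecialLinearGroup (Fin 2) F) ⊓ normalizer (P : Set _) :=
        ⟨mem_zpowers _, hK2 y.2⟩
      rw [h2] at h4
      exact h4.2
    have hPK : Nat.card ((P : Subgroup _) ⊓ K2 : Subgroup (Matrix.ProjectiveSpecialLinearGroup (Fin 2) F)) ∣ 9 := by
      rw [← hP9]
      exact Subgroup.card_dvd_of_le inf_le_left
    have hPK' : Nat.card ((P : Subgroup _) ⊓ K2 : Subgroup (Matrix.ProjectiveSpecialLinearGroup (Fin 2) F)) ∣ Nat.card K2 :=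
      Subgroup.card_dvd_of_le inf_le_right
    have hle : ∀ k : ℕ, {y : K2 | y ^ (3 ^ k) = 1}.ncard ≤
        Nat.card ((P : Subgroup _) ⊓ K2 : Subgroup (Matrix.ProjectiveSpecialLinearGroup (Fin 2) F)) := by
      intro k
      rw [← Nat.card_coe_set_eq]
      refine Nat.card_le_card_of_injective (fun y => (⟨_, h3el k y.1 y.2⟩ :
        ((P : Subgroup _) ⊓ K2 : Subgroup (Matrix.ProjectiveSpecialLinearGroup (Fin 2) F)))) ?_
      intro a b hab
      exact Subtype.ext (Subtype.ext (congrArg (fun z :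
        ((P : Subgroup _) ⊓ K2 : Subgroup (Matrix.ProjectiveSpecialLinearGroup (Fin 2) F)) =>
          (z : Matrix.ProjectiveSpecialLinearGroup (Fin 2) F)) hab))
    have hn : Nat.card K2 = 1 ∨ Nat.card K2 = 2 ∨ Nat.card K2 = 4 ∨ Nat.card K2 = 9 ∨ Nat.card K2 = 3 ∨ Nat.card K2 = 6 ∨
        Nat.card K2 = 12 ∨ Nat.card K2 = 18 ∨ Nat.card K2 = 36 := by
      have := Nat.le_of_dvd (by norm_num) hK36
      generalize Nat.card K2 = n at *
      interval_cases n <;> omega
    have hcomm2 : ∀ p : ℕ, p.Prime → Nat.card K ≠ p ^ 2 := by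
      intro p hp h3
      have : Fact p.Prime := ⟨hp⟩
      apply hnc
      intro a ha b hb
      have h4 := (IsPGroup.isMulCommutative_of_card_eq_prime_sq (G := K) (p := p) h3).is_comm.comm ⟨a, ha⟩ ⟨b, hb⟩
      exact congrArg Subtype.val h4
    have hcommp : ∀ p : ℕ, p.Prime → Nat.card K ≠ p := by
      intro p hp h3
      have : Fact p.Prime := ⟨hp⟩
      exact hnc (fun a ha b hb => by
        have h : IsCyclic K := isCyclic_of_prime_card h3
        have h1 : (⟨a, ha⟩ : K) * ⟨b, hb⟩ = ⟨b, hb⟩ * ⟨a, ha⟩ := h.isMulCommutative.is_comm.comm _ _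
        exact Subtype.ext_iff.1 h1)
    have hno3 : ∀ m : ℕ, ¬ 3 ∣ m → Nat.card K2 = 3 ^ 1 * m → False := by
      intro m hm hc
      obtain ⟨R, hR, hne, hRc⟩ := exists_sylow_of_card e1 (r := 3) (k := 1) (m := m) Nat.prime_three hc hm one_ne_zero
        ((hle 1).trans (by
          rw [hc] at hPK'
          have h9 : Nat.card ((P : Subgroup _) ⊓ K2 : Subgroup (Matrix.ProjectiveSpecialLinearGroup (Fin 2) F)) ≤ 9 :=
            Nat.le_of_dvd (by norm_num) hPK
          generalize Nat.card ((P : Subgroup _) ⊓ K2 : Subgroup (Matrix.ProjectiveSpecialLinearGroup (Fin 2) F)) = n at *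
          by_contra hcon
          have hn9 : n = 9 := by
            interval_cases n <;> omega
          rw [hn9] at hPK'
          have h10 : 3 * 3 ∣ 3 * m := by
            rw [pow_one] at hPK'
            exact hPK'
          exact hm (Nat.dvd_of_mul_dvd_mul_left (by norm_num) h10)))
      obtain ⟨P', hP', -⟩ := hK.sylow Nat.prime_three hR hne
      have h1 := (card_norm_dvd (MulEquiv.refl A6) P').1
      have h2 : Nat.card (P' : Subgroup A6) = 3 ^ 1 := by rw [hP', hRc]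
      have h3 : Nat.card (P' : Subgroup A6) = 9 := h1
      omega
    have hyes : ∀ m : ℕ, ¬ 3 ∣ m → Nat.card K2 = 3 ^ 2 * m →
        ∃ R : Subgroup A6, (∀ y, y ∈ R ↔ y ∈ K ∧ ∃ k : ℕ, y ^ (3 ^ k) = 1) ∧ R ≠ ⊥ := by
      intro m hm hc
      obtain ⟨R, hR, hne, -⟩ := exists_sylow_of_card e1 (r := 3) (k := 2) (m := m) Nat.prime_three hc hm two_ne_zero
        ((hle 2).trans ((Nat.le_of_dvd (by norm_num) hPK).trans (by norm_num)))
      exact ⟨R, hR, hne⟩
    rcases hn with hn | hn | hn | hn | hn | hn | hn | hn | hn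
    · exact absurd (Subgroup.card_eq_one.1 (hKc.trans hn)) hK.ne_bot
    · exact absurd (hKc.trans hn) (hcommp 2 Nat.prime_two)
    · exact absurd (hKc.trans hn) (fun h => hcomm2 2 Nat.prime_two (h.trans (by norm_num)))
    · exact absurd (hKc.trans hn) (fun h => hcomm2 3 Nat.prime_three (h.trans (by norm_num)))
    · exact (hno3 1 (by norm_num) (by rw [hn]; norm_num)).elim
    · exact (hno3 2 (by norm_num) (by rw [hn]; norm_num)).elim
    · exact (hno3 4 (by norm_num) (by rw [hn]; norm_num)).elim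
    · exfalso
      obtain ⟨R, hR, hne⟩ := hyes 2 (by norm_num) (by rw [hn]; norm_num)
      have h1 := hK.modEq Nat.prime_three hR hne
      rw [index_of (c := 18) (d := 20) (hKc.trans hn) (by norm_num)] at h1
      exact absurd h1 (by decide)
    · exact Or.inr (Or.inr (Or.inr (Or.inr ⟨hKc.trans hn, hyes 4 (by norm_num) (by rw [hn]; norm_num)⟩)))
  · exact hA4 ⟨e0.trans e⟩
  · exact Or.inr (Or.inr (Or.inl ⟨e0.trans e⟩))
  · exact Or.inr (Or.inr (Or.inr (Or.inl ⟨e0.trans e⟩)))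
  · have hE : Fintype.card E = 3 ∨ Fintype.card E = 9 := by
      have hm0 : m ≠ 0 := by
        rintro rfl
        rw [pow_zero] at hm
        omega
      have h1 : Fintype.card E ∣ 9 := by
        rw [← hm]
        exact dvd_pow_self _ hm0
      have h2 := Nat.le_of_dvd (by norm_num) h1
      have h3 : 1 < Fintype.card E := Fintype.one_lt_card
      generalize Fintype.card E = n at *
      interval_cases n <;> omega
    rcases hE with hE | hE
    · rcases h with ⟨⟨e⟩⟩ | ⟨⟨e⟩⟩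
      · obtain ⟨e'⟩ := Cfsg.Agent.S0251.result hE
        exact hA4 ⟨(e0.trans e).trans e'⟩
      · obtain ⟨e'⟩ := Cfsg.Agent.H281.Reg.pgl_three hE
        exact Or.inr (Or.inr (Or.inl ⟨(e0.trans e).trans e'⟩))
    · exfalso
      rcases h with ⟨⟨e⟩⟩ | ⟨⟨e⟩⟩
      · obtain ⟨e'⟩ := Cfsg.Agent.S0254.result hE
        apply hK.ne_top
        apply Subgroup.eq_top_of_card_eq
        rw [Nat.card_congr ((e0.trans e).trans e').toEquiv]
      · have h1 := Cfsg.Agent.ClassicalGeometry.PSL2Basic.card_PGL2 (F := E)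
        rw [hE, ← Nat.card_congr (e0.trans e).toEquiv] at h1
        rw [h1] at hdvd
        revert hdvd
        decide

/-! ### the subgroups `S₄` -/

/-- the involutions which are squares, and `1` -/
def V {L : Type*} [Group L] (K : Subgroup L) : Set L := {k | k * k = 1 ∧ ∃ y ∈ K, y * y = k}

theorem perm_four_mul : ∀ x y : Perm (Fin 4), (x * x = 1 ∧ ∃ u, u * u = x) → (y * y = 1 ∧ ∃ v, v * v = y) →
    ((x * y) * (x * y) = 1 ∧ ∃ w, w * w = x * y) := by decide +kernel

theorem perm_four_card : (Finset.univ.filter (fun x : Perm (Fin 4) => x * x = 1 ∧ ∃ u, u * u = x)).card = 4 := by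
  decide +kernel

theorem perm_four_pairs : (Finset.univ.filter (fun p : Perm (Fin 4) × Perm (Fin 4) => (p.1 ≠ 1 ∧ p.1 * p.1 = 1 ∧ ∃ u, u * u = p.1) ∧
    (p.2 ≠ 1 ∧ p.2 * p.2 = 1 ∧ ∃ u, u * u = p.2) ∧ p.1 ≠ p.2 ∧ p.1 * p.2 = p.2 * p.1)).card = 6 := by
  decide +kernel

section four

variable {L : Type*} [Group L] [Finite L] {K : Subgroup L} (e : K ≃* Perm (Fin 4))

include e

omit [Finite L] in
theorem mem_V {k : K} : (k : L) ∈ V K ↔ (e k * e k = 1 ∧ ∃ u, u * u = e k) := by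
  constructor
  · rintro ⟨h1, y, hy, h2⟩
    have h1' : k * k = 1 := Subtype.ext h1
    have h2' : (⟨y, hy⟩ : K) * ⟨y, hy⟩ = k := Subtype.ext h2
    exact ⟨by rw [← map_mul, h1', map_one], e ⟨y, hy⟩, by rw [← map_mul, h2']⟩
  · rintro ⟨h1, u, h2⟩
    refine ⟨?_, (e.symm u : K), (e.symm u).2, ?_⟩
    · have h3 : k * k = 1 := by
        apply e.injective
        rw [map_mul, h1, map_one]
      exact congrArg Subtype.val h3
    · have h3 : e.symm u * e.symm u = k := by
        apply e.injective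
        rw [map_mul, e.apply_symm_apply, h2]
      exact congrArg Subtype.val h3

omit [Finite L] e in
theorem V_sub {k : L} (hk : k ∈ V K) : k ∈ K := by
  obtain ⟨-, y, hy, rfl⟩ := hk
  exact K.mul_mem hy hy

omit [Finite L] in
theorem V_mul {a b : L} (ha : a ∈ V K) (hb : b ∈ V K) : a * b ∈ V K := by
  have ha' := V_sub ha
  have hb' := V_sub hb
  have h1 := (mem_V e (k := ⟨a, ha'⟩)).1 ha
  have h2 := (mem_V e (k := ⟨b, hb'⟩)).1 hb
  have h3 := perm_four_mul _ _ h1 h2
  rw [← map_mul] at h3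
  exact (mem_V e (k := ⟨a, ha'⟩ * ⟨b, hb'⟩)).2 h3

omit [Finite L] in
theorem V_card : (V K).ncard ≤ 4 := by
  classical
  rw [← perm_four_card, card_filter_univ]
  refine Set.ncard_le_ncard_of_injOn (fun k => if h : k ∈ K then e ⟨k, h⟩ else 1) ?_ ?_ (Set.toFinite _)
  · intro k hk
    have h1 := V_sub hk
    show (if h : k ∈ K then e ⟨k, h⟩ else 1) ∈ _
    rw [dif_pos h1]
    exact (mem_V e (k := ⟨k, h1⟩)).1 hk
  · intro a ha b hb hab
    have h1 := V_sub ha
    have h2 := V_sub hb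
    simp only [dif_pos h1, dif_pos h2] at hab
    exact congrArg Subtype.val (e.injective hab)

theorem V_eq {a b : L} (ha : a ∈ V K) (hb : b ∈ V K) (ha1 : a ≠ 1) (hb1 : b ≠ 1) (hab : a ≠ b) :
    V K = {1, a, b, a * b} := by
  have h1 : ({1, a, b, a * b} : Set L) ⊆ V K := by
    rintro x (rfl | rfl | rfl | rfl)
    · exact ⟨one_mul 1, 1, one_mem _, one_mul 1⟩
    · exact ha
    · exact hb
    · exact V_mul e ha hb
  have haa : a * a = 1 := ha.1
  have h2 : ({1, a, b, a * b} : Set L).ncard = 4 := by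
    have e1 : (1 : L) ∉ ({a, b, a * b} : Set L) := by
      rintro (h | h | h)
      · exact ha1 h.symm
      · exact hb1 h.symm
      · apply hab
        have h3 : a * (a * b) = a * 1 := by rw [← h]
        rw [← mul_assoc, haa, one_mul, mul_one] at h3
        exact h3.symm
    have e2 : a ∉ ({b, a * b} : Set L) := by
      rintro (h | h)
      · exact hab h
      · exact hb1 (mul_eq_left.1 (Set.mem_singleton_iff.1 h).symm)
    have e3 : b ≠ a * b := by
      intro h
      exact ha1 (mul_eq_right.1 h.symm)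
    rw [Set.ncard_insert_of_notMem e1 (Set.toFinite _), Set.ncard_insert_of_notMem e2 (Set.toFinite _), Set.ncard_pair e3]
  symm
  refine Set.eq_of_subset_of_ncard_le h1 ?_ (Set.toFinite _)
  rw [h2]
  exact V_card e

omit [Finite L] in
theorem V_norm (hK : Adm K) {g : L} (hg : ∀ x ∈ V K, g * x * g⁻¹ ∈ V K) : g ∈ K := by
  let X : Subgroup L :=
    { carrier := V K
      one_mem' := ⟨one_mul 1, 1, one_mem _, one_mul 1⟩
      mul_mem' := V_mul e
      inv_mem' := by
        intro x hx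
        have h1 : x⁻¹ = x := inv_eq_of_mul_eq_one_left hx.1
        rw [h1]
        exact hx }
  refine hK.norm X (fun x hx => V_sub hx) ?_ ?_ g hg
  · intro h
    have h1 : (e.symm (swap 0 1 * swap 2 3) : L) ∈ X := (mem_V e).2 (by rw [e.apply_symm_apply]; decide +kernel)
    rw [h, mem_bot] at h1
    have h2 : e.symm (swap 0 1 * swap 2 3) = 1 := Subtype.ext h1
    rw [map_eq_one_iff e.symm e.symm.injective] at h2
    exact absurd h2 (by decide)
  · rintro φ y ⟨h1, z, hz, h2⟩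
    have h1' : y * y = 1 := Subtype.ext h1
    have h2' : (⟨z, hz⟩ : K) * ⟨z, hz⟩ = y := Subtype.ext h2
    refine ⟨?_, (φ ⟨z, hz⟩ : K), (φ ⟨z, hz⟩).2, ?_⟩
    · have : φ y * φ y = 1 := by rw [← map_mul, h1', map_one]
      exact congrArg Subtype.val this
    · have : φ ⟨z, hz⟩ * φ ⟨z, hz⟩ = φ y := by rw [← map_mul, h2']
      exact congrArg Subtype.val this

omit [Finite L] e in
theorem V_conj {g : L} (hg : g ∈ K) : ∀ x ∈ V K, g * x * g⁻¹ ∈ V K := by
  rintro x ⟨h1, y, hy, h2⟩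
  refine ⟨?_, g * y * g⁻¹, K.mul_mem (K.mul_mem hg hy) (K.inv_mem hg), ?_⟩
  · have e1 : g * x * g⁻¹ * (g * x * g⁻¹) = g * (x * x) * g⁻¹ := by group
    rw [e1, h1, mul_one, mul_inv_cancel]
  · rw [← h2]
    group

end four

/-- the pairs of commuting involutions -/
def TP : Set (A6 × A6) := {p | (p.1 ≠ 1 ∧ p.1 ^ 2 = 1) ∧ (p.2 ≠ 1 ∧ p.2 ^ 2 = 1) ∧ p.1 ≠ p.2 ∧ p.1 * p.2 = p.2 * p.1}

theorem ncard_TP : TP.ncard ≤ 270 := by
  have h := Cfsg.Agent.H220.EP.ncard_mul_le TP (D A6 2) (fun p a => p.1 = a) (m := 1) (n := 6) (by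
    intro p hp
    have : {b | b ∈ D A6 2 ∧ p.1 = b} = {p.1} := by
      ext b
      constructor
      · rintro ⟨-, h⟩
        exact h.symm
      · intro h
        rw [Set.mem_singleton_iff] at h
        rw [h]
        exact ⟨hp.1, rfl⟩
    rw [this, Set.ncard_singleton]) (by
    intro a ha
    have h1 : {p | p ∈ TP ∧ p.1 = a}.ncard ≤ ({b : A6 | a * b = b * a} \ {1, a}).ncard := by
      refine Set.ncard_le_ncard_of_injOn (fun p => p.2) ?_ ?_ (Set.toFinite _)
      · rintro p ⟨⟨-, h2, h3, h4⟩, rfl⟩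
        refine ⟨h4, ?_⟩
        rintro (h | h)
        · exact h2.1 h
        · exact h3 (Set.mem_singleton_iff.1 h).symm
      · rintro p ⟨-, h2⟩ q ⟨-, h3⟩ h4
        exact Prod.ext (h2.trans h3.symm) h4
    refine h1.trans ?_
    have h2 : ({1, a} : Set A6) ⊆ {b : A6 | a * b = b * a} := by
      rintro x (rfl | rfl)
      · show a * 1 = 1 * a
        rw [mul_one, one_mul]
      · rfl
    rw [Set.ncard_sdiff h2 (Set.toFinite _), Set.ncard_pair ha.1.symm]
    have h3 := cent_le ha.1 ha.2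
    omega)
  have h2 := two_le
  omega

theorem ncard_four : {K : Subgroup A6 | Adm K ∧ Nonempty (K ≃* Perm (Fin 4))}.ncard ≤ 45 := by
  have h := Cfsg.Agent.H220.EP.ncard_mul_le {K : Subgroup A6 | Adm K ∧ Nonempty (K ≃* Perm (Fin 4))} TP
    (fun K p => p.1 ∈ V K ∧ p.2 ∈ V K) (m := 6) (n := 1) (by
    rintro K ⟨hK, ⟨e⟩⟩
    refine (le_of_eq perm_four_pairs.symm).trans ?_
    rw [card_filter_univ]
    refine Set.ncard_le_ncard_of_injOn (fun p => ((e.symm p.1 : A6), (e.symm p.2 : A6))) ?_ ?_ (Set.toFinite _)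
    · rintro ⟨x, y⟩ ⟨⟨h1, h2, h3⟩, ⟨h4, h5, h6⟩, h7, h8⟩
      have hne : ∀ x : Perm (Fin 4), x ≠ 1 → (e.symm x : A6) ≠ 1 := by
        intro x hx h
        apply hx
        have h9 : e.symm x = 1 := Subtype.ext h
        rwa [map_eq_one_iff e.symm e.symm.injective] at h9
      have hsq : ∀ x : Perm (Fin 4), x * x = 1 → (e.symm x : A6) ^ 2 = 1 := by
        intro x hx
        have h9 : e.symm x * e.symm x = 1 := by rw [← map_mul, hx, map_one]
        rw [pow_two]
        exact congrArg Subtype.val h9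
      refine ⟨⟨⟨hne x h1, hsq x h2⟩, ⟨hne y h4, hsq y h5⟩, ?_, ?_⟩, ?_, ?_⟩
      · intro h
        exact h7 (e.symm.injective (Subtype.ext h))
      · have h9 : e.symm x * e.symm y = e.symm y * e.symm x := by rw [← map_mul, ← map_mul]; exact congrArg _ h8
        exact congrArg Subtype.val h9
      · exact (mem_V e).2 (by rw [e.apply_symm_apply]; exact ⟨h2, h3⟩)
      · exact (mem_V e).2 (by rw [e.apply_symm_apply]; exact ⟨h5, h6⟩)
    · rintro ⟨x, y⟩ - ⟨x', y'⟩ - h
      have h1 := congrArg Prod.fst h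
      have h2 := congrArg Prod.snd h
      exact Prod.ext (e.symm.injective (Subtype.ext h1)) (e.symm.injective (Subtype.ext h2))) (by
    rintro ⟨a, b⟩ ⟨⟨ha1, -⟩, ⟨hb1, -⟩, hab, -⟩
    rw [Set.ncard_le_one (Set.toFinite _)]
    have key : ∀ K K' : Subgroup A6, Adm K → Nonempty (K ≃* Perm (Fin 4)) →
        V K = {1, a, b, a * b} → V K' = {1, a, b, a * b} → K' ≤ K := by
      rintro K K' hK ⟨e⟩ h1 h2 g hg
      refine V_norm e hK ?_
      rw [h1, ← h2]
      exact V_conj hg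
    rintro K ⟨⟨hK, he⟩, h1, h2⟩ K' ⟨⟨hK', he'⟩, h1', h2'⟩
    have hV : V K = {1, a, b, a * b} := V_eq he.some h1 h2 ha1 hb1 hab
    have hV' : V K' = {1, a, b, a * b} := V_eq he'.some h1' h2' ha1 hb1 hab
    exact le_antisymm (key K' K hK' he' hV' hV) (key K K' hK he hV hV'))
  have h2 := ncard_TP
  omega

theorem ncard_adm : {K : Subgroup A6 | Adm K}.ncard ≤ 166 := by
  have hsub : {K : Subgroup A6 | Adm K} ⊆ {K | Adm K ∧ Nonempty (K ≃* DihedralGroup 4)} ∪
      ({K | Adm K ∧ Nonempty (K ≃* DihedralGroup 5)} ∪ ({K | Adm K ∧ Nonempty (K ≃* Perm (Fin 4))} ∪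
      ({K | Nonempty (K ≃* alternatingGroup (Fin 5))} ∪ {K | Adm K ∧ (Nat.card K = 36 ∧
        ∃ R : Subgroup A6, (∀ y, y ∈ R ↔ y ∈ K ∧ ∃ k : ℕ, y ^ (3 ^ k) = 1) ∧ R ≠ ⊥)}))) := by
    intro K hK
    rcases adm_ty hK with h | h | h | h | h
    · exact Or.inl ⟨hK, h⟩
    · exact Or.inr (Or.inl ⟨hK, h⟩)
    · exact Or.inr (Or.inr (Or.inl ⟨hK, h⟩))
    · exact Or.inr (Or.inr (Or.inr (Or.inl h)))
    · exact Or.inr (Or.inr (Or.inr (Or.inr ⟨hK, h⟩)))
  have n4 : {K : Subgroup A6 | Adm K ∧ Nonempty (K ≃* DihedralGroup 4)}.ncard ≤ 45 := by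
    refine type_le Nat.prime_two ?_
    rintro K ⟨hK, ⟨e⟩⟩
    obtain ⟨R, hR, hne, -⟩ := exists_sylow_of_card e (r := 2) (k := 3) (m := 1) Nat.prime_two
      (by rw [DihedralGroup.nat_card]; rfl) (by norm_num) (by norm_num)
      (by rw [← card_filter_univ]; decide +kernel)
    exact ⟨hK, index_of (c := 8) (by rw [Nat.card_congr e.toEquiv, DihedralGroup.nat_card]) (by norm_num), R, hR, hne⟩
  have n5 : {K : Subgroup A6 | Adm K ∧ Nonempty (K ≃* DihedralGroup 5)}.ncard ≤ 36 := by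
    refine type_le Nat.prime_five ?_
    rintro K ⟨hK, ⟨e⟩⟩
    obtain ⟨R, hR, hne, -⟩ := exists_sylow_of_card e (r := 5) (k := 1) (m := 2) Nat.prime_five
      (by rw [DihedralGroup.nat_card]; rfl) (by norm_num) one_ne_zero
      (by rw [← card_filter_univ]; decide +kernel)
    exact ⟨hK, index_of (c := 10) (by rw [Nat.card_congr e.toEquiv, DihedralGroup.nat_card]) (by norm_num), R, hR, hne⟩
  have n9 : {K : Subgroup A6 | Adm K ∧ (Nat.card K = 36 ∧
        ∃ R : Subgroup A6, (∀ y, y ∈ R ↔ y ∈ K ∧ ∃ k : ℕ, y ^ (3 ^ k) = 1) ∧ R ≠ ⊥)}.ncard ≤ 10 := by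
    refine type_le Nat.prime_three ?_
    rintro K ⟨hK, hc, hR⟩
    exact ⟨hK, index_of (c := 36) hc (by norm_num), hR⟩
  have n24 := ncard_four
  have n60 := a5_le (L := A6) two_le three_le
  have h1 := Set.ncard_le_ncard hsub (Set.toFinite _)
  have u1 := Set.ncard_union_le {K : Subgroup A6 | Adm K ∧ Nonempty (K ≃* DihedralGroup 4)}
      ({K | Adm K ∧ Nonempty (K ≃* DihedralGroup 5)} ∪ ({K | Adm K ∧ Nonempty (K ≃* Perm (Fin 4))} ∪
      ({K | Nonempty (K ≃* alternatingGroup (Fin 5))} ∪ {K | Adm K ∧ (Nat.card K = 36 ∧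
        ∃ R : Subgroup A6, (∀ y, y ∈ R ↔ y ∈ K ∧ ∃ k : ℕ, y ^ (3 ^ k) = 1) ∧ R ≠ ⊥)})))
  have u2 := Set.ncard_union_le {K : Subgroup A6 | Adm K ∧ Nonempty (K ≃* DihedralGroup 5)}
      ({K | Adm K ∧ Nonempty (K ≃* Perm (Fin 4))} ∪
      ({K | Nonempty (K ≃* alternatingGroup (Fin 5))} ∪ {K | Adm K ∧ (Nat.card K = 36 ∧
        ∃ R : Subgroup A6, (∀ y, y ∈ R ↔ y ∈ K ∧ ∃ k : ℕ, y ^ (3 ^ k) = 1) ∧ R ≠ ⊥)}))
  have u3 := Set.ncard_union_le {K : Subgroup A6 | Adm K ∧ Nonempty (K ≃* Perm (Fin 4))}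
      ({K | Nonempty (K ≃* alternatingGroup (Fin 5))} ∪ {K | Adm K ∧ (Nat.card K = 36 ∧
        ∃ R : Subgroup A6, (∀ y, y ∈ R ↔ y ∈ K ∧ ∃ k : ℕ, y ^ (3 ^ k) = 1) ∧ R ≠ ⊥)})
  have u4 := Set.ncard_union_le {K : Subgroup A6 | Nonempty (K ≃* alternatingGroup (Fin 5))}
    {K | Adm K ∧ (Nat.card K = 36 ∧
        ∃ R : Subgroup A6, (∀ y, y ∈ R ↔ y ∈ K ∧ ∃ k : ℕ, y ^ (3 ^ k) = 1) ∧ R ≠ ⊥)}
  omega

/-! ### involutions -/

theorem mem_D_two {L : Type*} [Group L] {x : L} : x ∈ D L 2 ↔ orderOf x = 2 := by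
  have : Fact (Nat.Prime 2) := ⟨Nat.prime_two⟩
  rw [orderOf_eq_prime_iff]
  exact and_comm

theorem inv_card {L : Type*} [Group L] {K : Subgroup L} {X : Type*} [Group X] (e : K ≃* X) :
    Nat.card {l : L // l ∈ K ∧ orderOf l = 2} = (D X 2).ncard := by
  rw [← Nat.card_coe_set_eq]
  refine Nat.card_congr ⟨fun l => ⟨e ⟨l.1, l.2.1⟩, ?_⟩, fun x => ⟨(e.symm x.1 : K), (e.symm x.1).2, ?_⟩, ?_, ?_⟩
  · rw [mem_D_two, e.orderOf_eq, Subgroup.orderOf_mk]
    exact l.2.2
  · rw [Subgroup.orderOf_coe, e.symm.orderOf_eq]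
    exact mem_D_two.1 x.2
  · rintro ⟨l, hl, h2⟩
    apply Subtype.ext
    show ((e.symm (e ⟨l, hl⟩) : K) : L) = l
    rw [e.symm_apply_apply]
  · rintro ⟨x, hx⟩
    apply Subtype.ext
    show e ⟨(e.symm x : K), _⟩ = x
    exact e.apply_symm_apply x

theorem d4_two : (Finset.univ.filter (fun x : DihedralGroup 4 => x ≠ 1 ∧ x ^ 2 = 1)).card = 5 := by decide +kernel
theorem d5_two : (Finset.univ.filter (fun x : DihedralGroup 5 => x ≠ 1 ∧ x ^ 2 = 1)).card = 5 := by decide +kernel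
theorem s4_two : (Finset.univ.filter (fun x : Perm (Fin 4) => x ≠ 1 ∧ x ^ 2 = 1)).card = 9 := by decide +kernel
theorem a5_two : (Finset.univ.filter (fun x : alternatingGroup (Fin 5) => x ≠ 1 ∧ x ^ 2 = 1)).card = 15 := by
  decide +kernel

/-- a subgroup of even order and its involutions -/
theorem inv_mul {K : Subgroup A6} (h2 : 2 ∣ Nat.card K) :
    Nat.card K ≤ Nat.card {l : A6 // l ∈ K ∧ orderOf l = 2} * 8 := by
  have : Fact (Nat.Prime 2) := ⟨Nat.prime_two⟩
  obtain ⟨t, ht⟩ := exists_prime_orderOf_dvd_card' 2 h2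
  have ht' : orderOf (t : A6) = 2 := by rw [Subgroup.orderOf_coe, ht]
  have ht2 : (t : A6) ∈ D A6 2 := mem_D_two.2 ht'
  have h := Cfsg.Agent.H220.EP.ncard_mul_le (K : Set A6) {l : A6 | l ∈ K ∧ orderOf l = 2}
    (fun k l => k * t * k⁻¹ = l) (m := 1) (n := 8) (by
    intro k hk
    rw [Nat.one_le_iff_ne_zero, Ne, Set.ncard_eq_zero (Set.toFinite _), ← Ne, ← Set.nonempty_iff_ne_empty]
    refine ⟨k * t * k⁻¹, ⟨K.mul_mem (K.mul_mem hk t.2) (K.inv_mem hk), ?_⟩, rfl⟩
    have h3 : orderOf (MulAut.conj k (t : A6)) = orderOf (t : A6) := (MulAut.conj k).orderOf_eq _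
    rw [MulAut.conj_apply, ht'] at h3
    exact h3) (by
    rintro l -
    rcases Set.eq_empty_or_nonempty {a : A6 | a ∈ (K : Set A6) ∧ a * t * a⁻¹ = l} with h0 | ⟨k0, -, hk0⟩
    · rw [h0, Set.ncard_empty]
      exact Nat.zero_le _
    · refine le_trans ?_ (cent_le ht2.1 ht2.2)
      refine Set.ncard_le_ncard_of_injOn (fun k => k0⁻¹ * k) ?_ ?_ (Set.toFinite _)
      · rintro k ⟨-, hk⟩
        show (t : A6) * (k0⁻¹ * k) = k0⁻¹ * k * t
        have h4 : k * t * k⁻¹ = k0 * t * k0⁻¹ := hk.trans hk0.symm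
        have h5 : k * t = k0 * t * k0⁻¹ * k := by rw [← h4]; group
        rw [mul_assoc k0⁻¹ k, h5]
        group
      · rintro a - b - h5
        exact mul_left_cancel h5)
  rw [mul_one] at h
  rw [← Nat.card_coe_set_eq, ← Nat.card_coe_set_eq] at h
  exact h

/-- **H4** every admissible subgroup of `A₆` contains at least five involutions -/
theorem inv_ge {K : Subgroup A6} (hK : Adm K) : 5 ≤ Nat.card {l : A6 // l ∈ K ∧ orderOf l = 2} := by
  rcases adm_ty hK with ⟨⟨e⟩⟩ | ⟨⟨e⟩⟩ | ⟨⟨e⟩⟩ | ⟨⟨e⟩⟩ | ⟨hc, -⟩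
  · rw [inv_card e]
    exact le_of_eq (d4_two.symm.trans (card_filter_univ _))
  · rw [inv_card e]
    exact le_of_eq (d5_two.symm.trans (card_filter_univ _))
  · rw [inv_card e]
    exact le_trans (by norm_num) (le_of_eq (s4_two.symm.trans (card_filter_univ _)))
  · rw [inv_card e]
    exact le_trans (by norm_num) (le_of_eq (a5_two.symm.trans (card_filter_univ _)))
  · have h1 := inv_mul (K := K) (by rw [hc]; norm_num)
    omega

theorem card_aut : Nat.card (MulAut A6) = 1440 := by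
  have : Fact (Nat.Prime 3) := ⟨Nat.prime_three⟩
  let F := GaloisField 3 2
  have : Finite F := inferInstanceAs (Finite (GaloisField 3 2))
  have : Fintype F := Fintype.ofFinite F
  have hF : Fintype.card F = 9 := by
    rw [← Nat.card_eq_fintype_card, GaloisField.card 3 2 two_ne_zero]
    norm_num
  obtain ⟨f⟩ := Cfsg.Agent.S0254.result hF
  rw [← Nat.card_congr (MulAut.congr f).toEquiv, Cfsg.Agent.S0813.result 3 2 one_le_two hF 2 le_rfl (fun _ => by norm_num),
    Cfsg.Agent.S0265.result, Cfsg.Agent.ClassicalGeometry.PSL2Basic.card_SL2, hF]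
  norm_num

theorem center_A6 : ∀ z : A6, (∀ x, z * x = x * z) → z = 1 := by
  intro z hz
  have h1 : z ∈ center A6 := mem_center_iff.2 fun g => (hz g).symm
  rcases (inferInstance : (center A6).Normal).eq_bot_or_eq_top with h2 | h2
  · rwa [h2, mem_bot] at h1
  · exfalso
    obtain ⟨a, b, hab⟩ := ncomm
    have h3 : b ∈ center A6 := by rw [h2]; exact mem_top b
    exact hab (mem_center_iff.1 h3 a)

/-- commutators are inner if the inner automorphisms have index 4 -/
theorem out_comm {L : Type*} [Group L] [Finite L] (hc : ∀ z : L, (∀ x, z * x = x * z) → z = 1)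
    (h : Nat.card (MulAut L) = 4 * Nat.card L) (α β : MulAut L) :
    α * β * α⁻¹ * β⁻¹ ∈ (MulAut.conj : L →* MulAut L).range := by
  have hinj : Function.Injective (MulAut.conj : L →* MulAut L) := by
    rw [injective_iff_map_eq_one]
    intro z hz
    apply hc
    intro x
    have h1 := DFunLike.congr_fun hz x
    rw [MulAut.conj_apply, MulAut.one_apply, mul_inv_eq_iff_eq_mul] at h1
    exact h1
  have h1 : Nat.card (MulAut.conj : L →* MulAut L).range = Nat.card L :=
    (Nat.card_congr (MonoidHom.ofInjective hinj).toEquiv).symm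
  have h2 : (MulAut.conj : L →* MulAut L).range.index = 4 := by
    have h3 := (MulAut.conj : L →* MulAut L).range.card_mul_index
    rw [h1, h, mul_comm 4] at h3
    exact Nat.eq_of_mul_eq_mul_left Nat.card_pos h3
  have hn : (MulAut.conj : L →* MulAut L).range.Normal := by
    constructor
    rintro _ ⟨l, rfl⟩ φ
    refine ⟨φ l, ?_⟩
    ext x
    simp [MulAut.conj_apply, MulAut.mul_apply]
  have : Fact (Nat.Prime 2) := ⟨Nat.prime_two⟩
  have h3 : Nat.card (MulAut L ⧸ (MulAut.conj : L →* MulAut L).range) = 2 ^ 2 := h2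
  have h4 := (IsPGroup.isMulCommutative_of_card_eq_prime_sq h3).is_comm.comm
    (α : MulAut L ⧸ (MulAut.conj : L →* MulAut L).range) β
  rw [← QuotientGroup.eq_one_iff]
  show (α : MulAut L ⧸ (MulAut.conj : L →* MulAut L).range) * β * (α : MulAut L ⧸ (MulAut.conj : L →* MulAut L).range)⁻¹ *
    (β : MulAut L ⧸ (MulAut.conj : L →* MulAut L).range)⁻¹ = 1
  rw [h4]
  group

end Cfsg.Agent.H417.EP.Six
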