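import Cfsg.Agent.H417.EP.Weight

/-!
# Admissible subgroups and Sylow subgroups (helper417)
-/

set_option autoImplicit false

namespace Cfsg.Agent.H417.EP

open Subgroup MulAction
open Cfsg.Agent.H284

variable {L : Type*} [Group L] {K : Subgroup L}

/-- An admissible subgroup is self-normalising. -/
theorem Adm.normalizer_le (hK : Adm K) {g : L} (hg : ∀ x ∈ K, g * x * g⁻¹ ∈ K) : g ∈ K :=
  hK.norm K le_rfl hK.ne_bot (fun φ y _ => (φ y).2) g hg

/-- If the `r`-elements of the admissible `K` form a subgroup `R ≠ 1`, then `R` is a Sylow subgroup with normaliser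
`K`. -/
theorem Adm.sylow [Finite L] (hK : Adm K) {r : ℕ} (hr : r.Prime) {R : Subgroup L}
    (hR : ∀ y, y ∈ R ↔ y ∈ K ∧ ∃ k : ℕ, y ^ (r ^ k) = 1) (hne : R ≠ ⊥) :
    ∃ P : Sylow r L, (P : Subgroup L) = R ∧ normalizer (R : Set L) = K := by
  have hRK : R ≤ K := fun y hy => ((hR y).1 hy).1
  have hRp : IsPGroup r R := by
    rintro ⟨y, hy⟩
    obtain ⟨_, k, hk⟩ := (hR y).1 hy
    exact ⟨k, Subtype.ext hk⟩
  have hch : ∀ φ : MulAut K, ∀ y : K, (y : L) ∈ R → ((φ y : K) : L) ∈ R := by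
    intro φ y hy
    obtain ⟨_, k, hk⟩ := (hR y).1 hy
    refine (hR _).2 ⟨(φ y).2, k, ?_⟩
    have h1 : y ^ (r ^ k) = 1 := Subtype.ext hk
    rw [← Subgroup.coe_pow, ← map_pow, h1, map_one, Subgroup.coe_one]
  obtain ⟨P, hP⟩ := hRp.exists_le_sylow
  refine ⟨P, ?_, ?_⟩
  · by_contra hcon
    obtain ⟨y, hyP, hyR, hyn⟩ := exists_norm_lt hr P.2 hP hcon
    apply hyR
    obtain ⟨k, hk⟩ := P.2 ⟨y, hyP⟩
    exact (hR y).2 ⟨hK.norm R hRK hne hch y hyn, k, Subtype.ext_iff.1 hk⟩
  · apply le_antisymm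
    · intro g hg
      exact hK.norm R hRK hne hch g fun x hx => (mem_normalizer_iff.1 hg x).1 hx
    · intro g hg
      rw [mem_normalizer_iff]
      intro x
      constructor
      · intro hx
        obtain ⟨h1, k, hk⟩ := (hR x).1 hx
        refine (hR _).2 ⟨K.mul_mem (K.mul_mem hg h1) (K.inv_mem hg), k, ?_⟩
        rw [conj_pow, hk, mul_one, mul_inv_cancel]
      · intro hx
        obtain ⟨h1, k, hk⟩ := (hR _).1 hx
        have h2 : x = g⁻¹ * (g * x * g⁻¹) * g := by group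
        refine (hR x).2 ⟨?_, k, ?_⟩
        · rw [h2]
          exact K.mul_mem (K.mul_mem (K.inv_mem hg) h1) hg
        · rw [conj_pow, mul_inv_eq_one, mul_eq_left] at hk
          exact hk

/-- The index of `K` is the number of Sylow subgroups. -/
theorem Adm.card_sylow [Finite L] (hK : Adm K) {r : ℕ} (hr : r.Prime) {R : Subgroup L}
    (hR : ∀ y, y ∈ R ↔ y ∈ K ∧ ∃ k : ℕ, y ^ (r ^ k) = 1) (hne : R ≠ ⊥) : Nat.card (Sylow r L) = K.index := by
  have : Fact r.Prime := ⟨hr⟩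
  obtain ⟨P, hP, hn⟩ := hK.sylow hr hR hne
  rw [P.card_eq_index_normalizer]
  have h1 : normalizer ((P : Subgroup L) : Set L) = K := by rw [hP]; exact hn
  exact congrArg _ h1

theorem Adm.modEq [Finite L] (hK : Adm K) {r : ℕ} (hr : r.Prime) {R : Subgroup L}
    (hR : ∀ y, y ∈ R ↔ y ∈ K ∧ ∃ k : ℕ, y ^ (r ^ k) = 1) (hne : R ≠ ⊥) : K.index ≡ 1 [MOD r] := by
  have : Fact r.Prime := ⟨hr⟩
  rw [← hK.card_sylow hr hR hne]
  exact card_sylow_modEq_one r L

/-- An admissible subgroup of a non-abelian simple group is not abelian. -/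
theorem Adm.not_comm [Finite L] [IsSimpleGroup L] (hna : ∃ a b : L, a * b ≠ b * a) (hK : Adm K)
    (hc : ∀ a ∈ K, ∀ b ∈ K, a * b = b * a) : False := by
  have h1 : ∃ r : ℕ, r.Prime ∧ r ∣ Nat.card K := by
    apply Nat.exists_prime_and_dvd
    intro h2
    exact hK.ne_bot ((Subgroup.card_eq_one).1 h2)
  obtain ⟨r, hr, hdvd⟩ := h1
  have : Fact r.Prime := ⟨hr⟩
  let R : Subgroup L :=
    { carrier := {y | y ∈ K ∧ ∃ k : ℕ, y ^ (r ^ k) = 1}
      one_mem' := ⟨one_mem _, 0, one_pow _⟩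
      mul_mem' := by
        rintro a b ⟨ha, k, hk⟩ ⟨hb, l, hl⟩
        refine ⟨mul_mem ha hb, k + l, ?_⟩
        rw [(show Commute a b from hc a ha b hb).mul_pow, pow_add, pow_mul, hk, one_pow, one_mul, mul_comm (r ^ k),
          pow_mul, hl, one_pow]
      inv_mem' := by
        rintro a ⟨ha, k, hk⟩
        exact ⟨inv_mem ha, k, by rw [inv_pow, hk, inv_one]⟩ }
  have hR : ∀ y, y ∈ R ↔ y ∈ K ∧ ∃ k : ℕ, y ^ (r ^ k) = 1 := fun y => Iff.rfl
  have hne : R ≠ ⊥ := by
    intro e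
    obtain ⟨y, hy⟩ := exists_prime_orderOf_dvd_card' r hdvd
    have h2 : (y : L) ∈ R := by
      refine (hR _).2 ⟨y.2, 1, ?_⟩
      rw [pow_one, ← hy, ← Subgroup.orderOf_coe, pow_orderOf_eq_one]
    rw [e, mem_bot] at h2
    have h3 : y = 1 := Subtype.ext h2
    rw [h3, orderOf_one] at hy
    exact hr.one_lt.ne hy
  obtain ⟨P, hP, hn⟩ := hK.sylow hr hR hne
  have hPc : normalizer ((P : Subgroup L) : Set L) ≤ centralizer ((P : Subgroup L) : Set L) := by
    rw [hP, hn]
    intro g hg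
    rw [mem_centralizer_iff]
    intro y hy
    exact hc _ ((hR y).1 hy).1 _ hg
  have h4 := MonoidHom.ker_transferSylow_isComplement' P hPc
  rcases (inferInstance : (MonoidHom.transferSylow P hPc).ker.Normal).eq_bot_or_eq_top with h5 | h5
  · rw [h5] at h4
    have h6 := Subgroup.isComplement'_bot_left.1 h4
    obtain ⟨a, b, hab⟩ := hna
    apply hab
    refine hc a ?_ b ?_
    · have : a ∈ (P : Subgroup L) := by rw [h6]; exact mem_top a
      rw [hP] at this
      exact ((hR a).1 this).1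
    · have : b ∈ (P : Subgroup L) := by rw [h6]; exact mem_top b
      rw [hP] at this
      exact ((hR b).1 this).1
  · rw [h5] at h4
    have h6 := Subgroup.isComplement'_top_left.1 h4
    exact hne (by rw [← hP, h6])

/-- the `r`-elements of `K` if there are few of them -/
theorem exists_sylow_of_card [Finite L] {X : Type*} [Group X] (e : K ≃* X) {r k m : ℕ} (hr : r.Prime)
    (hcard : Nat.card X = r ^ k * m) (hm : ¬ r ∣ m) (hk : k ≠ 0) (hle : {y : X | y ^ (r ^ k) = 1}.ncard ≤ r ^ k) :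
    ∃ R : Subgroup L, (∀ y, y ∈ R ↔ y ∈ K ∧ ∃ k : ℕ, y ^ (r ^ k) = 1) ∧ R ≠ ⊥ ∧ Nat.card R = r ^ k := by
  have : Fact r.Prime := ⟨hr⟩
  have : Finite X := Finite.of_equiv _ e.toEquiv
  have hm0 : m ≠ 0 := fun e => hm (e ▸ dvd_zero r)
  have hfac : (Nat.card X).factorization r = k := by
    rw [hcard, Nat.factorization_mul (pow_ne_zero _ hr.ne_zero) hm0, hr.factorization_pow, Finsupp.add_apply,
      Finsupp.single_eq_same, Nat.factorization_eq_zero_of_not_dvd hm, add_zero]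
  obtain ⟨P⟩ : Nonempty (Sylow r X) := inferInstance
  have hPc : Nat.card P = r ^ k := by rw [P.card_eq_multiplicity, hfac]
  have hPow : ∀ y ∈ (P : Subgroup X), y ^ (r ^ k) = 1 := by
    intro y hy
    have h1 := Subgroup.orderOf_dvd_natCard (P : Subgroup X) hy
    have h2 : Nat.card (P : Subgroup X) = r ^ k := hPc
    rw [h2] at h1
    exact orderOf_dvd_iff_pow_eq_one.1 h1
  have hPs : (P : Set X) = {y : X | y ^ (r ^ k) = 1} := by
    apply Set.eq_of_subset_of_ncard_le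
    · intro y hy
      exact hPow y hy
    · refine hle.trans ?_
      rw [← hPc]
      exact le_of_eq rfl
    · exact Set.toFinite _
  have hPm : ∀ y : X, (∃ l : ℕ, y ^ (r ^ l) = 1) → y ∈ P := by
    rintro y ⟨l, hl⟩
    have h1 : y ^ (r ^ k) = 1 := by
      have h2 : orderOf y ∣ r ^ l := orderOf_dvd_of_pow_eq_one hl
      obtain ⟨j, _, hj⟩ := (Nat.dvd_prime_pow hr).1 h2
      have h3 : r ^ j ∣ Nat.card X := hj ▸ orderOf_dvd_natCard y
      have h4 : j ≤ k := by
        rw [← hfac]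
        exact (hr.pow_dvd_iff_le_factorization Nat.card_pos.ne').1 h3
      rw [← orderOf_dvd_iff_pow_eq_one, hj]
      exact pow_dvd_pow r h4
    have h2 : y ∈ (P : Set X) := by rw [hPs]; exact h1
    exact h2
  refine ⟨((P : Subgroup X).comap e.toMonoidHom).map K.subtype, ?_, ?_, ?_⟩
  · intro y
    constructor
    · rintro ⟨z, hz, rfl⟩
      refine ⟨z.2, k, ?_⟩
      have h2 : e z ^ (r ^ k) = 1 := hPow _ hz
      rw [← map_pow, map_eq_one_iff e e.injective] at h2
      exact Subtype.ext_iff.1 h2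
    · rintro ⟨hy, l, hl⟩
      refine ⟨⟨y, hy⟩, ?_, rfl⟩
      apply hPm
      refine ⟨l, ?_⟩
      have h2 : (⟨y, hy⟩ : K) ^ (r ^ l) = 1 := Subtype.ext hl
      show e ⟨y, hy⟩ ^ (r ^ l) = 1
      rw [← map_pow, h2, map_one]
  · intro e1
    have h1 : Nat.card (((P : Subgroup X).comap e.toMonoidHom).map K.subtype) = r ^ k := by
      rw [← hPc]
      exact Nat.card_congr (((Subgroup.equivMapOfInjective _ _ K.subtype_injective).symm.toEquiv).trans
        (Equiv.subtypeEquiv e.toEquiv fun _ => Iff.rfl))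
    rw [e1, Subgroup.card_bot] at h1
    exact hk (by
      by_contra hk0
      have := Nat.one_lt_pow hk0 hr.one_lt
      omega)
  · rw [← hPc]
    exact Nat.card_congr (((Subgroup.equivMapOfInjective _ _ K.subtype_injective).symm.toEquiv).trans
      (Equiv.subtypeEquiv e.toEquiv fun _ => Iff.rfl))

end Cfsg.Agent.H417.EP
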