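import Cfsg.Agent.H417.EP.ElevenWeight
import Cfsg.Agent.S0799
import Cfsg.Agent.TwoFusion.SLTwoFacts

/-!
# The admissible subgroups of `PSL₂(11)` (helper417)
-/

set_option autoImplicit false

namespace Cfsg.Agent.H417.EP.Eleven

open Subgroup
open Cfsg.Agent.H579.ElevenMat
open Cfsg.Agent.ClassicalGeometry.AutPSL.Root
open Cfsg.Agent.ClassicalGeometry.AutPSL.Auto
open Cfsg.Agent.ClassicalGeometry.AutPSL.Main

instance simple_PS : IsSimpleGroup PS :=
  Cfsg.Agent.TwoFusion.SLTwoFacts.isSimpleGroup_psl (by rw [ZMod.card]; norm_num)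

theorem ncomm : ∃ a b : PS, a * b ≠ b * a := by
  let a : S := ⟨!![1, 1; 0, 1], by decide⟩
  let b : S := ⟨!![1, 0; 1, 1], by decide⟩
  refine ⟨pr a, pr b, fun h => ?_⟩
  have h1 : pr ((b * a)⁻¹ * (a * b)) = 1 := by
    rw [map_mul, map_inv, map_mul, map_mul, h, inv_mul_cancel]
  rw [scalar_iff] at h1
  exact absurd h1 (by decide +kernel)

theorem index_of {K : Subgroup PS} {c d : ℕ} (hK : Nat.card K = c) (hc : c * d = 660) : K.index = d := by
  have h1 := K.card_mul_index
  rw [card_PS, hK, ← hc] at h1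
  rcases Nat.eq_zero_or_pos c with h2 | h2
  · rw [h2] at hc; omega
  · exact Nat.eq_of_mul_eq_mul_left h2 h1

theorem ne_top_of {K : Subgroup PS} (h : Adm K) (hc : Nat.card K = 660) : False := by
  apply h.ne_top
  apply Subgroup.eq_top_of_card_eq
  rw [hc, card_PS]

theorem norm_eleven (P : Sylow 11 PS) : Nat.card (normalizer (P : Set PS)) = 55 := by
  have hPc : Nat.card P = 11 := by
    rw [P.card_eq_multiplicity, card_PS]
    have : (660 : ℕ).factorization 11 = 1 := by
      rw [show (660 : ℕ) = 11 * 60 from rfl, Nat.factorization_mul (by norm_num) (by norm_num), Finsupp.add_apply,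
        Nat.Prime.factorization_self (by norm_num), Nat.factorization_eq_zero_of_not_dvd (by norm_num)]
    rw [this, pow_one]
  have h1 : Nat.card (Sylow 11 PS) ∣ P.index := P.card_dvd_index
  have h2 : P.index = 60 := index_of (c := 11) hPc (by norm_num)
  have h3 : Nat.card (Sylow 11 PS) ≡ 1 [MOD 11] := card_sylow_modEq_one 11 PS
  have h4 := P.card_eq_index_normalizer
  rw [h2] at h1
  have h5 : Nat.card (Sylow 11 PS) ≤ 60 := Nat.le_of_dvd (by norm_num) h1
  have h6 : Nat.card (Sylow 11 PS) = 1 ∨ Nat.card (Sylow 11 PS) = 12 := by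
    generalize Nat.card (Sylow 11 PS) = n at *
    interval_cases n <;> first | omega | (exfalso; revert h3; decide)
  rcases h6 with h6 | h6
  · exfalso
    rw [h6] at h4
    have h7 : normalizer ((P : Subgroup PS) : Set PS) = ⊤ := Subgroup.index_eq_one.1 h4.symm
    have h8 : (P : Subgroup PS).Normal := Subgroup.normalizer_eq_top_iff.1 h7
    rcases h8.eq_bot_or_eq_top with h9 | h9
    · have : Nat.card (P : Subgroup PS) = 11 := hPc
      rw [h9, Subgroup.card_bot] at this
      omega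
    · have : Nat.card (P : Subgroup PS) = 11 := hPc
      rw [h9, Subgroup.card_top, card_PS] at this
      omega
  · have h7 := (normalizer ((P : Subgroup PS) : Set PS)).card_mul_index
    have h8 : (normalizer ((P : Subgroup PS) : Set PS)).index = 12 := h4.symm.trans h6
    rw [h8, card_PS] at h7
    show Nat.card (normalizer ((P : Subgroup PS) : Set PS)) = 55
    omega

/-- the isomorphism types -/
def Ty (K : Subgroup PS) : Prop :=
  Nonempty (K ≃* DihedralGroup 5) ∨ Nonempty (K ≃* DihedralGroup 6) ∨ Nonempty (K ≃* alternatingGroup (Fin 4)) ∨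
    Nonempty (K ≃* alternatingGroup (Fin 5)) ∨ Nat.card K = 55

theorem comm_of_equiv {K : Subgroup PS} {X : Type*} [Group X] (e : K ≃* X) (hX : ∀ a b : X, a * b = b * a) :
    ∀ a ∈ K, ∀ b ∈ K, a * b = b * a := by
  intro a ha b hb
  have h1 : (⟨a, ha⟩ : K) * ⟨b, hb⟩ = ⟨b, hb⟩ * ⟨a, ha⟩ := by
    apply e.injective
    rw [map_mul, map_mul, hX]
  exact Subtype.ext_iff.1 h1

theorem comm_of_cyclic {K : Subgroup PS} (h : IsCyclic K) : ∀ a ∈ K, ∀ b ∈ K, a * b = b * a := by
  intro a ha b hb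
  have h1 : (⟨a, ha⟩ : K) * ⟨b, hb⟩ = ⟨b, hb⟩ * ⟨a, ha⟩ := h.isMulCommutative.is_comm.comm _ _
  exact Subtype.ext_iff.1 h1

theorem adm_ty {K : Subgroup PS} (hK : Adm K) : Ty K := by
  have hnc : ¬ ∀ a ∈ K, ∀ b ∈ K, a * b = b * a := hK.not_comm ncomm
  have hdvd : Nat.card K ∣ 660 := by rw [← card_PS]; exact Subgroup.card_subgroup_dvd_card K
  have hD : ∀ k : ℕ, (k ∣ 6 ∨ k ∣ 5) → Nonempty (K ≃* DihedralGroup k) → Ty K := by
    rintro k hk ⟨e⟩
    have hk' : k = 1 ∨ k = 2 ∨ k = 3 ∨ k = 5 ∨ k = 6 := by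
      rcases hk with h | h
      · have := Nat.le_of_dvd (by norm_num) h
        interval_cases k <;> omega
      · have := Nat.le_of_dvd (by norm_num) h
        interval_cases k <;> omega
    rcases hk' with rfl | rfl | rfl | rfl | rfl
    · exact absurd (comm_of_equiv e (by decide +kernel)) hnc
    · exact absurd (comm_of_equiv e (by decide +kernel)) hnc
    · exfalso
      obtain ⟨R, hR, hne, -⟩ := exists_sylow_of_card e (r := 3) (k := 1) (m := 2) Nat.prime_three
        (by rw [DihedralGroup.nat_card]; rfl) (by norm_num) one_ne_zero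
        (by rw [← card_filter_univ]; decide +kernel)
      have h1 := hK.modEq Nat.prime_three hR hne
      rw [index_of (c := 6) (d := 110) (by rw [Nat.card_congr e.toEquiv, DihedralGroup.nat_card]) (by norm_num)] at h1
      exact absurd h1 (by decide)
    · exact Or.inl ⟨e⟩
    · exact Or.inr (Or.inl ⟨e⟩)
  rcases Cfsg.Agent.S0799.result (F := ZMod 11) (q := 11) (ZMod.card 11) 11 K with
    ⟨k, hk, ⟨hc, -⟩ | h⟩ | ⟨P, K', hK', ⟨e⟩⟩ | ⟨⟨e⟩⟩ | ⟨⟨e⟩⟩ | ⟨⟨e⟩⟩ | ⟨F, _, _, m, hm, h⟩
  · exact absurd (comm_of_cyclic hc) hnc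
  · exact hD k (by simpa using hk) h
  · have h1 : Nat.card K ∣ 55 := by
      rw [Nat.card_congr e.toEquiv, ← norm_eleven P]
      exact Subgroup.card_dvd_of_le hK'
    have h2 : Nat.card K = 1 ∨ Nat.card K = 5 ∨ Nat.card K = 11 ∨ Nat.card K = 55 := by
      have := Nat.le_of_dvd (by norm_num) h1
      generalize Nat.card K = n at *
      interval_cases n <;> first | omega | (exfalso; revert h1; decide)
    have hp : ∀ p : ℕ, p.Prime → Nat.card K ≠ p := by
      intro p hp h3
      have : Fact p.Prime := ⟨hp⟩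
      exact hnc (comm_of_cyclic (isCyclic_of_prime_card h3))
    rcases h2 with h2 | h2 | h2 | h2
    · exact absurd (Subgroup.card_eq_one.1 h2) hK.ne_bot
    · exact absurd h2 (hp 5 (by norm_num))
    · exact absurd h2 (hp 11 (by norm_num))
    · exact Or.inr (Or.inr (Or.inr (Or.inr h2)))
  · exact Or.inr (Or.inr (Or.inl ⟨e⟩))
  · exfalso
    rw [Nat.card_congr e.toEquiv, Nat.card_eq_fintype_card, Fintype.card_perm, Fintype.card_fin] at hdvd
    revert hdvd
    decide
  · exact Or.inr (Or.inr (Or.inr (Or.inl ⟨e⟩)))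
  · exfalso
    have hm1 : m = 1 := by
      have h11 : (11 : ℕ).Prime := by norm_num
      rw [← hm] at h11
      exact (Nat.Prime.eq_one_of_pow h11)
    rw [hm1, pow_one] at hm
    rcases h with ⟨⟨e⟩⟩ | ⟨⟨e⟩⟩
    · have h1 := Cfsg.Agent.ClassicalGeometry.PSL2Basic.card_PSL2_odd (F := F) (by rw [hm]; decide)
      rw [hm, ← Nat.card_congr e.toEquiv] at h1
      have h2 : Nat.card K * 2 = 660 * 2 := h1.trans (by norm_num)
      exact ne_top_of hK (Nat.eq_of_mul_eq_mul_right (by norm_num) h2)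
    · have h1 := Cfsg.Agent.ClassicalGeometry.PSL2Basic.card_PGL2 (F := F)
      rw [hm, ← Nat.card_congr e.toEquiv] at h1
      rw [h1] at hdvd
      revert hdvd
      decide

theorem eleven_elts {K : Subgroup PS} (hc : Nat.card K = 55) : {y : K | y ^ (11 ^ 1) = 1}.ncard ≤ 11 ^ 1 := by
  have hfac : (Nat.card K).factorization 11 = 1 := by
    rw [hc, show (55 : ℕ) = 11 * 5 from rfl, Nat.factorization_mul (by norm_num) (by norm_num), Finsupp.add_apply,
      Nat.Prime.factorization_self (by norm_num), Nat.factorization_eq_zero_of_not_dvd (by norm_num)]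
  obtain ⟨P⟩ : Nonempty (Sylow 11 K) := inferInstance
  have hPc : Nat.card P = 11 := by rw [P.card_eq_multiplicity, hfac, pow_one]
  have h1 : Nat.card (Sylow 11 K) ∣ P.index := P.card_dvd_index
  have h2 : P.index = 5 := by
    have h := (P : Subgroup K).card_mul_index
    have h' : Nat.card (P : Subgroup K) = 11 := hPc
    rw [hc, h'] at h
    have h'' : (P : Subgroup K).index = 5 := by omega
    exact h''
  have h3 : Nat.card (Sylow 11 K) ≡ 1 [MOD 11] := card_sylow_modEq_one 11 K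
  rw [h2] at h1
  have h5 : Nat.card (Sylow 11 K) ≤ 5 := Nat.le_of_dvd (by norm_num) h1
  have h6 : Nat.card (Sylow 11 K) = 1 := by
    generalize Nat.card (Sylow 11 K) = n at *
    interval_cases n <;> first | rfl | (exfalso; revert h3; decide)
  have h7 : Subsingleton (Sylow 11 K) := (Nat.card_eq_one_iff_unique.1 h6).1
  have h8 : {y : K | y ^ (11 ^ 1) = 1} ⊆ (P : Set K) := by
    intro y hy
    have h9 : IsPGroup 11 (zpowers y) := by
      rintro ⟨z, n, rfl⟩
      refine ⟨1, Subtype.ext ?_⟩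
      show (y ^ n) ^ (11 ^ 1) = 1
      rw [← zpow_natCast, ← zpow_mul, mul_comm, zpow_mul, zpow_natCast]
      have : y ^ (11 ^ 1) = 1 := hy
      rw [this, one_zpow]
    obtain ⟨P', hP'⟩ := h9.exists_le_sylow
    have h10 : P' = P := Subsingleton.elim _ _
    rw [h10] at hP'
    exact hP' (mem_zpowers y)
  refine (Set.ncard_le_ncard h8 (Set.toFinite _)).trans ?_
  rw [pow_one]
  exact le_of_eq hPc

open Classical in
theorem wt_adm {K : Subgroup PS} (hK : Adm K) : 88 ≤ ∑ t : PS, if t ∈ K then wt t else 0 := by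
  rcases adm_ty hK with ⟨⟨e⟩⟩ | ⟨⟨e⟩⟩ | ⟨⟨e⟩⟩ | ⟨⟨e⟩⟩ | hc
  · rw [sum_iso K e]; exact le_of_eq (by rw [← d5])
  · rw [sum_iso K e]; exact le_trans (by norm_num) (le_of_eq (by rw [← d6]) : 122 ≤ _)
  · rw [sum_iso K e]; exact le_of_eq (by rw [← a4])
  · rw [sum_iso K e]; exact le_trans (by norm_num) (le_of_eq (by rw [← a5]) : 388 ≤ _)
  · have hnc : ¬ ∀ a ∈ K, ∀ b ∈ K, a * b = b * a := hK.not_comm ncomm
    have : Fintype K := Fintype.ofFinite K
    rw [sum_iso K (MulEquiv.refl K)]
    have h11 := eleven_elts hc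
    rw [pow_one] at h11
    have h1 : ∀ y : K, y ^ 11 = 1 ∨ (y ≠ 1 ∧ y ^ 5 = 1) := by
      intro y
      have h2 : orderOf y ∣ 55 := hc ▸ orderOf_dvd_natCard y
      have h3 : orderOf y = 1 ∨ orderOf y = 5 ∨ orderOf y = 11 ∨ orderOf y = 55 := by
        have := Nat.le_of_dvd (by norm_num) h2
        generalize orderOf y = n at *
        interval_cases n <;> omega
      rcases h3 with h | h | h | h
      · left
        rw [orderOf_eq_one_iff.1 h, one_pow]
      · right
        have h4 := pow_orderOf_eq_one y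
        rw [h] at h4
        refine ⟨fun h0 => ?_, h4⟩
        rw [h0, orderOf_one] at h
        omega
      · left
        have h4 := pow_orderOf_eq_one y
        rwa [h] at h4
      · exfalso
        apply hnc
        apply comm_of_cyclic
        exact isCyclic_of_orderOf_eq_card y (by rw [h, hc])
    have h2 : ∀ y : K, 2 * (if y ^ 11 = 1 then 0 else 1) ≤ wt y := by
      intro y
      by_cases h : y ^ 11 = 1
      · rw [if_pos h]; exact Nat.zero_le _
      · rw [if_neg h]
        obtain ⟨a, b⟩ := (h1 y).resolve_left h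
        unfold wt
        rw [if_neg a]
        split_ifs <;> norm_num
    refine le_trans ?_ (Finset.sum_le_sum fun y _ => h2 y)
    rw [← Finset.mul_sum]
    have h3 : (∑ y : K, if y ^ 11 = 1 then 0 else 1) + (Finset.univ.filter fun y : K => y ^ 11 = 1).card =
        Fintype.card K := by
      rw [Finset.card_filter, ← Finset.sum_add_distrib, ← Finset.card_univ, Finset.card_eq_sum_ones]
      apply Finset.sum_congr rfl
      intro y _
      split_ifs <;> rfl
    rw [card_filter_univ, ← Nat.card_eq_fintype_card, hc] at h3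
    have h4 : {x : K | x ^ 11 = 1}.ncard ≤ 11 := h11
    omega

/-- the number of admissible subgroups which are normalisers of a Sylow subgroup -/
theorem type_le {L : Type*} [Group L] [Finite L] {r : ℕ} (hr : r.Prime) {𝒮 : Set (Subgroup L)} {c : ℕ}
    (h : ∀ K ∈ 𝒮, Adm K ∧ K.index = c ∧ ∃ R : Subgroup L, (∀ y, y ∈ R ↔ y ∈ K ∧ ∃ k : ℕ, y ^ (r ^ k) = 1) ∧ R ≠ ⊥) :
    𝒮.ncard ≤ c := by
  rcases 𝒮.eq_empty_or_nonempty with rfl | ⟨K₀, hK₀⟩
  · rw [Set.ncard_empty]; exact Nat.zero_le _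
  · have : Fact r.Prime := ⟨hr⟩
    obtain ⟨h1, h2, R₀, h3, h4⟩ := h K₀ hK₀
    have h5 := h1.card_sylow hr h3 h4
    rw [h2] at h5
    rw [← h5]
    have h6 : 𝒮 ⊆ Set.range (fun P : Sylow r L => normalizer (P : Set L)) := by
      intro K hK
      obtain ⟨a1, a2, R, a3, a4⟩ := h K hK
      obtain ⟨P, hP, hn⟩ := a1.sylow hr a3 a4
      refine ⟨P, ?_⟩
      show normalizer ((P : Subgroup L) : Set L) = K
      rw [hP, hn]
    refine (Set.ncard_le_ncard h6 (Set.toFinite _)).trans ?_
    rw [← Set.image_univ]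
    refine (Set.ncard_image_le (Set.toFinite _)).trans ?_
    rw [Set.ncard_univ]

theorem ncard_adm : {K : Subgroup PS | Adm K}.ncard ≤ 238 := by
  have hsub : {K : Subgroup PS | Adm K} ⊆ {K | Adm K ∧ Nonempty (K ≃* DihedralGroup 5)} ∪
      ({K | Adm K ∧ Nonempty (K ≃* DihedralGroup 6)} ∪ ({K | Adm K ∧ Nonempty (K ≃* alternatingGroup (Fin 4))} ∪
      ({K | Nonempty (K ≃* alternatingGroup (Fin 5))} ∪ {K | Adm K ∧ Nat.card K = 55}))) := by
    intro K hK
    rcases adm_ty hK with h | h | h | h | h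
    · exact Or.inl ⟨hK, h⟩
    · exact Or.inr (Or.inl ⟨hK, h⟩)
    · exact Or.inr (Or.inr (Or.inl ⟨hK, h⟩))
    · exact Or.inr (Or.inr (Or.inr (Or.inl h)))
    · exact Or.inr (Or.inr (Or.inr (Or.inr ⟨hK, h⟩)))
  have n5 : {K : Subgroup PS | Adm K ∧ Nonempty (K ≃* DihedralGroup 5)}.ncard ≤ 66 := by
    refine type_le Nat.prime_five ?_
    rintro K ⟨hK, ⟨e⟩⟩
    obtain ⟨R, hR, hne, -⟩ := exists_sylow_of_card e (r := 5) (k := 1) (m := 2) Nat.prime_five
      (by rw [DihedralGroup.nat_card]; rfl) (by norm_num) one_ne_zero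
      (by rw [← card_filter_univ]; decide +kernel)
    exact ⟨hK, index_of (c := 10) (by rw [Nat.card_congr e.toEquiv, DihedralGroup.nat_card]) (by norm_num), R, hR, hne⟩
  have n6 : {K : Subgroup PS | Adm K ∧ Nonempty (K ≃* DihedralGroup 6)}.ncard ≤ 55 := by
    refine type_le Nat.prime_three ?_
    rintro K ⟨hK, ⟨e⟩⟩
    obtain ⟨R, hR, hne, -⟩ := exists_sylow_of_card e (r := 3) (k := 1) (m := 4) Nat.prime_three
      (by rw [DihedralGroup.nat_card]; rfl) (by norm_num) one_ne_zero
      (by rw [← card_filter_univ]; decide +kernel)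
    exact ⟨hK, index_of (c := 12) (by rw [Nat.card_congr e.toEquiv, DihedralGroup.nat_card]) (by norm_num), R, hR, hne⟩
  have cA4 : Nat.card (alternatingGroup (Fin 4)) = 12 := by
    rw [Nat.card_eq_fintype_card]; decide +kernel
  have n4 : {K : Subgroup PS | Adm K ∧ Nonempty (K ≃* alternatingGroup (Fin 4))}.ncard ≤ 55 := by
    refine type_le Nat.prime_two ?_
    rintro K ⟨hK, ⟨e⟩⟩
    obtain ⟨R, hR, hne, -⟩ := exists_sylow_of_card e (r := 2) (k := 2) (m := 3) Nat.prime_two
      (by rw [cA4]; rfl) (by norm_num) two_ne_zero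
      (by rw [← card_filter_univ]; decide +kernel)
    exact ⟨hK, index_of (c := 12) (by rw [Nat.card_congr e.toEquiv, cA4]) (by norm_num), R, hR, hne⟩
  have n11 : {K : Subgroup PS | Adm K ∧ Nat.card K = 55}.ncard ≤ 12 := by
    refine type_le (r := 11) (by norm_num) ?_
    rintro K ⟨hK, hc⟩
    obtain ⟨R, hR, hne, -⟩ := exists_sylow_of_card (MulEquiv.refl K) (r := 11) (k := 1) (m := 5) (by norm_num)
      (by rw [hc]; rfl) (by norm_num) one_ne_zero (eleven_elts hc)
    exact ⟨hK, index_of (c := 55) hc (by norm_num), R, hR, hne⟩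
  have n60 := a5_le (L := PS) two_le three_le
  have h1 := Set.ncard_le_ncard hsub (Set.toFinite _)
  have u1 := Set.ncard_union_le {K : Subgroup PS | Adm K ∧ Nonempty (K ≃* DihedralGroup 5)}
      ({K | Adm K ∧ Nonempty (K ≃* DihedralGroup 6)} ∪ ({K | Adm K ∧ Nonempty (K ≃* alternatingGroup (Fin 4))} ∪
      ({K | Nonempty (K ≃* alternatingGroup (Fin 5))} ∪ {K | Adm K ∧ Nat.card K = 55})))
  have u2 := Set.ncard_union_le {K : Subgroup PS | Adm K ∧ Nonempty (K ≃* DihedralGroup 6)}
      ({K | Adm K ∧ Nonempty (K ≃* alternatingGroup (Fin 4))} ∪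
      ({K | Nonempty (K ≃* alternatingGroup (Fin 5))} ∪ {K | Adm K ∧ Nat.card K = 55}))
  have u3 := Set.ncard_union_le {K : Subgroup PS | Adm K ∧ Nonempty (K ≃* alternatingGroup (Fin 4))}
      ({K | Nonempty (K ≃* alternatingGroup (Fin 5))} ∪ {K | Adm K ∧ Nat.card K = 55})
  have u4 := Set.ncard_union_le {K : Subgroup PS | Nonempty (K ≃* alternatingGroup (Fin 5))}
    {K | Adm K ∧ Nat.card K = 55}
  omega

end Cfsg.Agent.H417.EP.Eleven
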