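import Cfsg.Agent.H579.ElevenMat

/-!
# The numbers of elements of orders 2, 3, 5 in `PSL₂(11)` (helper417)
-/

set_option autoImplicit false

namespace Cfsg.Agent.H417.EP.Eleven

open Matrix
open Cfsg.Agent.H579.ElevenMat
open Cfsg.Agent.ClassicalGeometry.AutPSL.Root
open Cfsg.Agent.ClassicalGeometry.AutPSL.Auto
open Cfsg.Agent.ClassicalGeometry.AutPSL.Main

/-- the non-trivial elements of order dividing `n` -/
def D (G : Type*) [Group G] (n : ℕ) : Set G := {x | x ≠ 1 ∧ x ^ n = 1}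

theorem trc (t : ZMod 11) (C : ZMod 11 → Prop) [DecidablePred C] :
    {A : S | A 0 0 + A 1 1 = t ∧ C (A 0 1)}.ncard ≤
      (Finset.univ.filter (fun p : ZMod 11 × ZMod 11 × ZMod 11 =>
        p.1 * (t - p.1) - p.2.1 * p.2.2 = 1 ∧ C p.2.1)).card := by
  rw [← Set.ncard_coe_finset]
  refine Set.ncard_le_ncard_of_injOn (fun A : S => (A 0 0, A 0 1, A 1 0)) ?_ ?_ (Finset.finite_toSet _)
  · rintro A ⟨ht, hC⟩
    have hd := A.det_coe
    rw [Matrix.det_fin_two] at hd
    rw [Finset.mem_coe, Finset.mem_filter]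
    refine ⟨Finset.mem_univ _, ?_, hC⟩
    show A 0 0 * (t - A 0 0) - A 0 1 * A 1 0 = 1
    rw [← ht]
    linear_combination hd
  · rintro A ⟨ht, _⟩ B ⟨ht', _⟩ e
    simp only [Prod.mk.injEq] at e
    obtain ⟨e1, e2, e3⟩ := e
    have e4 : A 1 1 = B 1 1 := by
      have : A 1 1 = t - A 0 0 := by rw [← ht]; ring
      rw [this, ← ht', e1]
      ring
    apply Subtype.ext
    ext i j
    fin_cases i <;> fin_cases j
    · exact e1
    · exact e2
    · exact e3
    · exact e4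

theorem scalar_iff (A : S) : pr A = 1 ↔ A 0 1 = 0 ∧ A 1 0 = 0 ∧ A 0 0 = A 1 1 := by
  rw [pr_eq_one_iff, Matrix.SpecialLinearGroup.mem_center_iff]
  constructor
  · rintro ⟨r, -, h⟩
    refine ⟨?_, ?_, ?_⟩
    · have := congrFun (congrFun h 0) 1
      simpa using this.symm
    · have := congrFun (congrFun h 1) 0
      simpa using this.symm
    · have h0 := congrFun (congrFun h 0) 0
      have h1 := congrFun (congrFun h 1) 1
      simp at h0 h1
      rw [← h0, ← h1]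
  · rintro ⟨h1, h2, h3⟩
    refine ⟨A 0 0, ?_, ?_⟩
    · have hd := A.det_coe
      rw [det_fin_two] at hd
      rw [h1, ← h3] at hd
      simp only [Fintype.card_fin]
      rw [pow_two]
      linear_combination hd
    · ext i j
      fin_cases i <;> fin_cases j
      · simp
      · simpa using h1.symm
      · simpa using h2.symm
      · simpa using h3

theorem pr_neg (A : S) : pr (-A) = pr A := by
  have h1 : pr (-1 : S) = 1 := by
    rw [scalar_iff]
    refine ⟨?_, ?_, ?_⟩ <;> simp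
  have h2 : -A = (-1) * A := by rw [neg_mul, one_mul]
  rw [h2, map_mul, h1, one_mul]

theorem dec_two : ∀ a b c : ZMod 11, a * (0 - a) - b * c = 1 → b ≠ 0 := by decide +kernel

theorem dec_sgn : ∀ b : ZMod 11, b ≠ 0 → b.val ≤ 5 ∨ (-b).val ≤ 5 := by decide +kernel

theorem lift_two {x : PS} (hx : x ∈ D PS 2) : ∃ A : S, (A 0 0 + A 1 1 = 0 ∧ (A 0 1).val ≤ 5) ∧ pr A = x := by
  obtain ⟨h1, h2⟩ := hx
  obtain ⟨A, rfl⟩ := pr_surjective x
  have hd := A.det_coe
  rw [Matrix.det_fin_two] at hd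
  have ht : A 0 0 + A 1 1 = 0 := by
    by_contra ht
    apply h1
    rw [← map_pow, scalar_iff] at h2
    have m : ∀ i j, (A ^ 2) i j = (A.1 * A.1) i j := by
      intro i j; rw [Matrix.SpecialLinearGroup.coe_pow, pow_two]
    rw [m, m, m, m] at h2
    simp only [Matrix.mul_apply, Fin.sum_univ_two] at h2
    obtain ⟨q1, q2, q3⟩ := h2
    rw [scalar_iff]
    refine ⟨?_, ?_, ?_⟩
    · have : (A 0 0 + A 1 1) * A 0 1 = 0 := by linear_combination q1
      exact (mul_eq_zero.1 this).resolve_left ht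
    · have : (A 0 0 + A 1 1) * A 1 0 = 0 := by linear_combination q2
      exact (mul_eq_zero.1 this).resolve_left ht
    · have : (A 0 0 + A 1 1) * (A 0 0 - A 1 1) = 0 := by linear_combination q3
      exact sub_eq_zero.1 ((mul_eq_zero.1 this).resolve_left ht)
  have hb : A 0 1 ≠ 0 := by
    refine dec_two (A 0 0) (A 0 1) (A 1 0) ?_
    linear_combination hd - A 0 0 * ht
  rcases dec_sgn _ hb with h | h
  · exact ⟨A, ⟨ht, h⟩, rfl⟩
  · refine ⟨-A, ⟨?_, ?_⟩, pr_neg A⟩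
    · show (-A.1) 0 0 + (-A.1) 1 1 = 0
      rw [Matrix.neg_apply, Matrix.neg_apply]
      linear_combination -ht
    · show ((-A.1) 0 1).val ≤ 5
      rw [Matrix.neg_apply]
      exact h

theorem dec_three : ∀ t : ZMod 11, t ^ 2 - 1 = 0 → t = 1 ∨ t = -1 := by decide +kernel

theorem lift_three {x : PS} (hx : x ∈ D PS 3) : ∃ A : S, (A 0 0 + A 1 1 = 1 ∧ True) ∧ pr A = x := by
  obtain ⟨h1, h3⟩ := hx
  obtain ⟨A, rfl⟩ := pr_surjective x
  have hd := A.det_coe
  rw [Matrix.det_fin_two] at hd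
  have ht : (A 0 0 + A 1 1) ^ 2 - 1 = 0 := by
    by_contra ht
    apply h1
    rw [← map_pow, scalar_iff] at h3
    have m : ∀ i j, (A ^ 3) i j = (A.1 * A.1 * A.1) i j := by
      intro i j; rw [Matrix.SpecialLinearGroup.coe_pow, pow_succ, pow_two]
    rw [m, m, m, m] at h3
    simp only [Matrix.mul_apply, Fin.sum_univ_two] at h3
    obtain ⟨q1, q2, q3⟩ := h3
    rw [scalar_iff]
    refine ⟨?_, ?_, ?_⟩
    · have : ((A 0 0 + A 1 1) ^ 2 - 1) * A 0 1 = 0 := by linear_combination q1 + A 0 1 * hd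
      exact (mul_eq_zero.1 this).resolve_left ht
    · have : ((A 0 0 + A 1 1) ^ 2 - 1) * A 1 0 = 0 := by linear_combination q2 + A 1 0 * hd
      exact (mul_eq_zero.1 this).resolve_left ht
    · have : ((A 0 0 + A 1 1) ^ 2 - 1) * (A 0 0 - A 1 1) = 0 := by
        linear_combination q3 + (A 0 0 - A 1 1) * hd
      exact sub_eq_zero.1 ((mul_eq_zero.1 this).resolve_left ht)
  rcases dec_three _ ht with h | h
  · exact ⟨A, ⟨h, trivial⟩, rfl⟩
  · refine ⟨-A, ⟨?_, trivial⟩, pr_neg A⟩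
    show (-A.1) 0 0 + (-A.1) 1 1 = 1
    rw [Matrix.neg_apply, Matrix.neg_apply]
    linear_combination -h

theorem lift_five {x : PS} (hx : x ∈ D PS 5) : ∃ A : S, (A 0 0 + A 1 1 = 3 ∨ A 0 0 + A 1 1 = 7) ∧ pr A = x := by
  obtain ⟨u, rfl, hu⟩ := exists_lift hx.2
  refine ⟨u, trace_eq hu ?_, rfl⟩
  rintro rfl
  exact hx.1 (map_one _)

theorem two_le : (D PS 2).ncard ≤ 55 := by
  have h1 : D PS 2 ⊆ pr '' {A : S | A 0 0 + A 1 1 = 0 ∧ (A 0 1).val ≤ 5} := fun x hx => by
    obtain ⟨A, hA, e⟩ := lift_two hx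
    exact ⟨A, hA, e⟩
  refine (Set.ncard_le_ncard h1 (Set.toFinite _)).trans ((Set.ncard_image_le (Set.toFinite _)).trans ?_)
  refine (trc 0 (fun b => b.val ≤ 5)).trans ?_
  decide +kernel

theorem three_le : (D PS 3).ncard ≤ 110 := by
  have h1 : D PS 3 ⊆ pr '' {A : S | A 0 0 + A 1 1 = 1 ∧ True} := fun x hx => by
    obtain ⟨A, hA, e⟩ := lift_three hx
    exact ⟨A, hA, e⟩
  refine (Set.ncard_le_ncard h1 (Set.toFinite _)).trans ((Set.ncard_image_le (Set.toFinite _)).trans ?_)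
  refine (trc 1 (fun _ => True)).trans ?_
  decide +kernel

theorem five_le : (D PS 5).ncard ≤ 264 := by
  have h1 : D PS 5 ⊆ pr '' ({A : S | A 0 0 + A 1 1 = 3 ∧ True} ∪ {A : S | A 0 0 + A 1 1 = 7 ∧ True}) := fun x hx => by
    obtain ⟨A, hA, e⟩ := lift_five hx
    exact ⟨A, hA.imp (fun h => ⟨h, trivial⟩) (fun h => ⟨h, trivial⟩), e⟩
  refine (Set.ncard_le_ncard h1 (Set.toFinite _)).trans ((Set.ncard_image_le (Set.toFinite _)).trans ?_)
  refine (Set.ncard_union_le _ _).trans ?_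
  have h3 : {A : S | A 0 0 + A 1 1 = 3 ∧ True}.ncard ≤ 132 := (trc 3 (fun _ => True)).trans (by decide +kernel)
  have h7 : {A : S | A 0 0 + A 1 1 = 7 ∧ True}.ncard ≤ 132 := (trc 7 (fun _ => True)).trans (by decide +kernel)
  omega

end Cfsg.Agent.H417.EP.Eleven
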