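import Cfsg.Agent.H417.EP.ElevenCount
import Cfsg.Agent.H417.EP.AdmSyl

/-!
# The weight on `PSL₂(11)` (helper417)
-/

set_option autoImplicit false

namespace Cfsg.Agent.H417.EP.Eleven

open Cfsg.Agent.H579.ElevenMat
open Cfsg.Agent.ClassicalGeometry.AutPSL.Main

theorem card_filter_univ {α : Type*} [Fintype α] (p : α → Prop) [DecidablePred p] :
    (Finset.univ.filter p).card = {x | p x}.ncard := by
  rw [← Set.ncard_coe_finset]
  congr 1
  ext t
  simp

/-- 16 for involutions, 5 for elements of order 3, 2 for elements of order 5 -/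
def wt {G : Type*} [Group G] [DecidableEq G] (x : G) : ℕ :=
  if x = 1 then 0 else if x ^ 2 = 1 then 16 else if x ^ 3 = 1 then 5 else if x ^ 5 = 1 then 2 else 0

theorem wt_equiv {G H : Type*} [Group G] [Group H] [DecidableEq G] [DecidableEq H] (f : G →* H)
    (hf : Function.Injective f) (x : G) : wt (f x) = wt x := by
  unfold wt
  simp only [← map_pow, map_eq_one_iff f hf]

theorem sum_iso {L : Type*} [Group L] [Fintype L] [DecidableEq L] (K : Subgroup L) [DecidablePred (· ∈ K)] {X : Type*}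
    [Group X] [Fintype X] [DecidableEq X] (e : K ≃* X) :
    ∑ t : L, (if t ∈ K then wt t else 0) = ∑ x : X, wt x := by
  rw [← Finset.sum_filter, ← Finset.sum_subtype_eq_sum_filter, ← e.toEquiv.sum_comp]
  refine Finset.sum_nbij' (fun t => ⟨t.1, by simp⟩) (fun t => ⟨t.1, by simp⟩) ?_ ?_ ?_ ?_ ?_
  · intro t _; exact Finset.mem_univ _
  · intro t _; simp
  · intro t _; rfl
  · intro t _; rfl
  · rintro ⟨t, ht⟩ _
    have h1 := wt_equiv e.toMonoidHom e.injective ⟨t, ht⟩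
    have h2 := wt_equiv K.subtype K.subtype_injective ⟨t, ht⟩
    exact h2.trans h1.symm

theorem sum_le_gen {G : Type*} [Group G] [Fintype G] [DecidableEq G] :
    ∑ t : G, wt t ≤ (D G 2).ncard * 16 + ((D G 3).ncard * 5 + (D G 5).ncard * 2) := by
  classical
  have h1 : ∀ t : G, wt t ≤ (if t ∈ D G 2 then 16 else 0) + ((if t ∈ D G 3 then 5 else 0) +
      (if t ∈ D G 5 then 2 else 0)) := by
    intro t
    unfold wt
    by_cases h0 : t = 1
    · rw [if_pos h0]; exact Nat.zero_le _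
    · rw [if_neg h0]
      by_cases h2 : t ^ 2 = 1
      · have : t ∈ D G 2 := ⟨h0, h2⟩
        rw [if_pos h2, if_pos this]
        exact Nat.le_add_right _ _
      · rw [if_neg h2]
        by_cases h3 : t ^ 3 = 1
        · have : t ∈ D G 3 := ⟨h0, h3⟩
          rw [if_pos h3, if_pos this]
          omega
        · rw [if_neg h3]
          by_cases h5 : t ^ 5 = 1
          · have : t ∈ D G 5 := ⟨h0, h5⟩
            rw [if_pos h5, if_pos this]
            omega
          · rw [if_neg h5]; exact Nat.zero_le _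
  refine (Finset.sum_le_sum fun t _ => h1 t).trans ?_
  rw [Finset.sum_add_distrib, Finset.sum_add_distrib]
  have h2 : ∀ (n k : ℕ), ∑ t : G, (if t ∈ D G n then k else 0) = (D G n).ncard * k := by
    intro n k
    rw [← Finset.sum_filter, Finset.sum_const, smul_eq_mul, card_filter_univ]
    rfl
  rw [h2, h2, h2]

open Classical in
theorem sum_le : ∑ t : PS, wt t ≤ 1958 := by
  refine sum_le_gen.trans ?_
  have := two_le
  have := three_le
  have := five_le
  omega

theorem d5 : ∑ x : DihedralGroup 5, wt x = 88 := by decide +kernel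
theorem d6 : ∑ x : DihedralGroup 6, wt x = 122 := by decide +kernel
theorem a4 : ∑ x : alternatingGroup (Fin 4), wt x = 88 := by decide +kernel
theorem a5 : ∑ x : alternatingGroup (Fin 5), wt x = 388 := by decide +kernel

/-- the pairs `(a, b)` with orders 2, 3 and product of order 5 -/
def pairs (G : Type*) [Group G] : Set (G × G) := {p | p.1 ∈ D G 2 ∧ p.2 ∈ D G 3 ∧ p.1 * p.2 ∈ D G 5}

theorem invols_a5 :
    ((Finset.univ : Finset (alternatingGroup (Fin 5))).filter (fun a => a ≠ 1 ∧ a ^ 2 = 1)).card = 15 := by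
  decide +kernel

/-- an involution of `A₅` -/
def invol_a5 : alternatingGroup (Fin 5) :=
  ⟨c[(0 : Fin 5), 1] * c[(2 : Fin 5), 3], Equiv.Perm.mem_alternatingGroup.2 (by decide +kernel)⟩

theorem conj_a5 : ∀ a : alternatingGroup (Fin 5), a ≠ 1 → a ^ 2 = 1 →
    ∃ g : alternatingGroup (Fin 5), g * invol_a5 = a * g := by
  decide +kernel

theorem fiber_invol : ((Finset.univ : Finset (alternatingGroup (Fin 5))).filter
    (fun b => b ≠ 1 ∧ b ^ 3 = 1 ∧ invol_a5 * b ≠ 1 ∧ (invol_a5 * b) ^ 5 = 1)).card = 8 := by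
  decide +kernel

theorem fiber_a5 (a : alternatingGroup (Fin 5)) (h1 : a ≠ 1) (h2 : a ^ 2 = 1) :
    ((Finset.univ : Finset (alternatingGroup (Fin 5))).filter
      (fun b => b ≠ 1 ∧ b ^ 3 = 1 ∧ a * b ≠ 1 ∧ (a * b) ^ 5 = 1)).card = 8 := by
  obtain ⟨g, hg⟩ := conj_a5 a h1 h2
  rw [← fiber_invol]
  have he : (MulAut.conj g).symm a = invol_a5 := by
    rw [MulAut.conj_symm_apply, mul_assoc, ← hg, inv_mul_cancel_left]
  refine Finset.card_equiv (MulAut.conj g).symm.toEquiv fun b => ?_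
  rw [Finset.mem_filter, Finset.mem_filter, ← he]
  show _ ↔ _ ∧ (MulAut.conj g).symm b ≠ 1 ∧ ((MulAut.conj g).symm b) ^ 3 = 1 ∧
    (MulAut.conj g).symm a * (MulAut.conj g).symm b ≠ 1 ∧
    ((MulAut.conj g).symm a * (MulAut.conj g).symm b) ^ 5 = 1
  rw [← map_mul, ← map_pow, ← map_pow]
  simp only [ne_eq, EmbeddingLike.map_eq_one_iff, Finset.mem_univ, true_and]

theorem pairs_a5 : (pairs (alternatingGroup (Fin 5))).ncard = 120 := by
  have h1 : (Finset.univ.filter (fun p : alternatingGroup (Fin 5) × alternatingGroup (Fin 5) =>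
    p.1 ≠ 1 ∧ p.1 ^ 2 = 1 ∧ p.2 ≠ 1 ∧ p.2 ^ 3 = 1 ∧ p.1 * p.2 ≠ 1 ∧ (p.1 * p.2) ^ 5 = 1)).card = 120 := by
    rw [Finset.card_filter, Fintype.sum_prod_type]
    have h2 : ∀ a : alternatingGroup (Fin 5), (∑ b : alternatingGroup (Fin 5),
        if a ≠ 1 ∧ a ^ 2 = 1 ∧ b ≠ 1 ∧ b ^ 3 = 1 ∧ a * b ≠ 1 ∧ (a * b) ^ 5 = 1 then 1 else 0) =
        if a ≠ 1 ∧ a ^ 2 = 1 then 8 else 0 := by
      intro a
      by_cases ha : a ≠ 1 ∧ a ^ 2 = 1
      · rw [if_pos ha, ← fiber_a5 a ha.1 ha.2, Finset.card_filter]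
        refine Finset.sum_congr rfl fun b _ => ?_
        refine if_congr ⟨fun h => h.2.2, fun h => ⟨ha.1, ha.2, h⟩⟩ rfl rfl
      · rw [if_neg ha]
        refine Finset.sum_eq_zero fun b _ => if_neg fun h => ha ⟨h.1, h.2.1⟩
    refine (Finset.sum_congr rfl fun a _ => h2 a).trans ?_
    rw [← Finset.sum_filter, Finset.sum_const, invols_a5, smul_eq_mul]
  rw [← h1, card_filter_univ]
  refine congrArg Set.ncard (Set.ext fun p => ?_)
  constructor
  · rintro ⟨⟨a, b⟩, ⟨c, d⟩, f, g⟩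
    exact ⟨a, b, c, d, f, g⟩
  · rintro ⟨a, b, c, d, f, g⟩
    exact ⟨⟨a, b⟩, ⟨c, d⟩, f, g⟩

/-- a subgroup of `A₅` with elements of orders 2, 3, 5 is everything -/
theorem gen_a5 {X : Type*} [Group X] (e : X ≃* alternatingGroup (Fin 5)) {p : X × X} (hp : p ∈ pairs X)
    {H : Subgroup X} (h1 : p.1 ∈ H) (h2 : p.2 ∈ H) : H = ⊤ := by
  have hs : IsSimpleGroup (alternatingGroup (Fin 5)) := alternatingGroup.isSimpleGroup_five
  have hsX : IsSimpleGroup X := e.isSimpleGroup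
  have hfin : Finite X := Finite.of_equiv _ e.symm.toEquiv
  have hc : Nat.card X = 60 := by
    rw [Nat.card_congr e.toEquiv, Nat.card_eq_fintype_card]
    decide +kernel
  have ho : ∀ (y : X) (n : ℕ), n.Prime → y ∈ D X n → y ∈ H → n ∣ Nat.card H := by
    intro y n hn hy hyH
    have : Fact n.Prime := ⟨hn⟩
    rw [← orderOf_eq_prime hy.2 hy.1]
    exact Subgroup.orderOf_dvd_natCard H hyH
  have k2 := ho _ 2 Nat.prime_two hp.1 h1
  have k3 := ho _ 3 Nat.prime_three hp.2.1 h2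
  have k5 := ho _ 5 Nat.prime_five hp.2.2 (H.mul_mem h1 h2)
  have hmul := H.card_mul_index
  rw [hc] at hmul
  have h30 : 30 ∣ Nat.card H := by omega
  obtain ⟨k, hk⟩ := h30
  rw [hk] at hmul
  have hidx : H.index = 1 ∨ H.index = 2 := by
    have h3 : k * H.index = 2 := by nlinarith
    have h4 : H.index ∣ 2 := ⟨k, by rw [← h3, mul_comm]⟩
    exact (Nat.dvd_prime Nat.prime_two).1 h4
  rcases hidx with h | h
  · exact Subgroup.index_eq_one.1 h
  · have hn := Subgroup.normal_of_index_eq_two h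
    rcases hn.eq_bot_or_eq_top with h5 | h5
    · exfalso
      rw [h5, Subgroup.index_bot, hc] at h
      omega
    · exact h5

/-- `m` subgroups `A₅` have `120 m` pairs -/
theorem a5_le {L : Type*} [Group L] [Finite L] {u v : ℕ} (hu : (D L 2).ncard ≤ u) (hv : (D L 3).ncard ≤ v) :
    {K : Subgroup L | Nonempty (K ≃* alternatingGroup (Fin 5))}.ncard * 120 ≤ u * v := by
  classical
  have : Fintype L := Fintype.ofFinite L
  have : Fintype (Subgroup L) := Fintype.ofFinite _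
  let 𝒦 : Finset (Subgroup L) := Finset.univ.filter fun K => Nonempty (K ≃* alternatingGroup (Fin 5))
  let P : Subgroup L → Finset (L × L) := fun K =>
    Finset.univ.filter fun p => p ∈ pairs L ∧ p.1 ∈ K ∧ p.2 ∈ K
  have h𝒦 : {K : Subgroup L | Nonempty (K ≃* alternatingGroup (Fin 5))}.ncard = 𝒦.card := by
    rw [← Set.ncard_coe_finset]
    congr 1
    ext K
    simp [𝒦]
  have hPc : ∀ K ∈ 𝒦, (P K).card = 120 := by
    intro K hK
    obtain ⟨e⟩ := (Finset.mem_filter.1 hK).2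
    rw [← pairs_a5, ← Set.ncard_coe_finset, Set.ncard_def, Set.ncard_def]
    refine congrArg _ ?_
    have hinj : Function.Injective (fun p : alternatingGroup (Fin 5) × alternatingGroup (Fin 5) =>
        (((e.symm p.1 : K) : L), ((e.symm p.2 : K) : L))) := by
      intro p q h
      simp only [Prod.mk.injEq] at h
      exact Prod.ext (e.symm.injective (Subtype.ext h.1)) (e.symm.injective (Subtype.ext h.2))
    rw [← hinj.encard_image]
    congr 1
    have hf : ∀ (y : alternatingGroup (Fin 5)) (n : ℕ), ((e.symm y : K) : L) ∈ D L n ↔ y ∈ D _ n := by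
      intro y n
      have h1 : ∀ z : alternatingGroup (Fin 5), ((e.symm z : K) : L) = 1 ↔ z = 1 := by
        intro z
        rw [OneMemClass.coe_eq_one]
        exact map_eq_one_iff e.symm e.symm.injective
      unfold D
      rw [Set.mem_ofPred_eq, Set.mem_ofPred_eq, Ne, h1, ← Subgroup.coe_pow, ← map_pow, h1]
    ext p
    simp only [P, Finset.coe_filter, Finset.mem_univ, true_and, Set.mem_ofPred_eq, Set.mem_image]
    constructor
    · rintro ⟨hp, hp1, hp2⟩
      have e1 : ((e.symm (e ⟨p.1, hp1⟩) : K) : L) = p.1 := by rw [MulEquiv.symm_apply_apply]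
      have e2 : ((e.symm (e ⟨p.2, hp2⟩) : K) : L) = p.2 := by rw [MulEquiv.symm_apply_apply]
      refine ⟨(e ⟨p.1, hp1⟩, e ⟨p.2, hp2⟩), ⟨?_, ?_, ?_⟩, ?_⟩
      · show e ⟨p.1, hp1⟩ ∈ D _ 2
        rw [← hf, e1]; exact hp.1
      · show e ⟨p.2, hp2⟩ ∈ D _ 3
        rw [← hf, e2]; exact hp.2.1
      · show e ⟨p.1, hp1⟩ * e ⟨p.2, hp2⟩ ∈ D _ 5
        rw [← hf, map_mul, Subgroup.coe_mul, e1, e2]; exact hp.2.2
      · exact Prod.ext e1 e2
    · rintro ⟨q, ⟨h1, h2, h3⟩, rfl⟩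
      refine ⟨⟨?_, ?_, ?_⟩, (e.symm q.1).2, (e.symm q.2).2⟩
      · exact (hf _ _).2 h1
      · exact (hf _ _).2 h2
      · show ((e.symm q.1 : K) : L) * ((e.symm q.2 : K) : L) ∈ D L 5
        rw [← Subgroup.coe_mul, ← map_mul]
        exact (hf _ _).2 h3
  have hdis : ∀ K ∈ 𝒦, ∀ K' ∈ 𝒦, K ≠ K' → Disjoint (P K) (P K') := by
    intro K hK K' hK' hne
    rw [Finset.disjoint_left]
    intro p hp hp'
    apply hne
    obtain ⟨hp1, hp2, hp3⟩ := (Finset.mem_filter.1 hp).2
    obtain ⟨-, hp2', hp3'⟩ := (Finset.mem_filter.1 hp').2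
    obtain ⟨e⟩ := (Finset.mem_filter.1 hK).2
    obtain ⟨e'⟩ := (Finset.mem_filter.1 hK').2
    have key : ∀ {K K' : Subgroup L}, K ≃* alternatingGroup (Fin 5) → p.1 ∈ K → p.2 ∈ K → p.1 ∈ K' → p.2 ∈ K' →
        K ≤ K' := by
      intro K K' e a1 a2 b1 b2
      have h1 : K'.subgroupOf K = ⊤ := by
        refine gen_a5 e (p := (⟨p.1, a1⟩, ⟨p.2, a2⟩)) ⟨?_, ?_, ?_⟩ b1 b2
        · exact ⟨fun h => hp1.1.1 (Subtype.ext_iff.1 h), Subtype.ext hp1.1.2⟩
        · exact ⟨fun h => hp1.2.1.1 (Subtype.ext_iff.1 h), Subtype.ext hp1.2.1.2⟩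
        · exact ⟨fun h => hp1.2.2.1 (Subtype.ext_iff.1 h), Subtype.ext hp1.2.2.2⟩
      exact Subgroup.subgroupOf_eq_top.1 h1
    exact le_antisymm (key e hp2 hp3 hp2' hp3') (key e' hp2' hp3' hp2 hp3)
  have hcard := Finset.card_biUnion hdis
  rw [Finset.sum_congr rfl hPc, Finset.sum_const, smul_eq_mul] at hcard
  rw [h𝒦, ← hcard]
  have hsub : (𝒦.biUnion P) ⊆ (Finset.univ.filter (· ∈ D L 2)) ×ˢ (Finset.univ.filter (· ∈ D L 3)) := by
    intro p hp
    obtain ⟨K, -, hK⟩ := Finset.mem_biUnion.1 hp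
    obtain ⟨hp1, -, -⟩ := (Finset.mem_filter.1 hK).2
    rw [Finset.mem_product, Finset.mem_filter, Finset.mem_filter]
    exact ⟨⟨Finset.mem_univ _, hp1.1⟩, Finset.mem_univ _, hp1.2.1⟩
  refine (Finset.card_le_card hsub).trans ?_
  rw [Finset.card_product]
  have hD : ∀ n : ℕ, (Finset.univ.filter (· ∈ D L n)).card = (D L n).ncard := by
    intro n
    rw [card_filter_univ]
    rfl
  rw [hD, hD]
  exact Nat.mul_le_mul hu hv

end Cfsg.Agent.H417.EP.Eleven
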