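import Cfsg.Agent.H284.EP.TForm

/-!
# Extremely primitive groups: a weighted count (helper417)

`L` a normal subgroup of the point stabiliser, given by `ι : L →* Q`. The traces `L ∩ A^x` are *admissible* subgroups
of `L` (`Adm`); a weight on `L` for which all admissible subgroups are heavy bounds the index of `A`.
-/

set_option autoImplicit false

namespace Cfsg.Agent.H417.EP

open Subgroup MulAction
open Cfsg.Agent.H284

/-- the possible traces, on a normal subgroup `L`, of the stabiliser of a second point -/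
structure Adm {L : Type*} [Group L] (K : Subgroup L) : Prop where
  ne_bot : K ≠ ⊥
  ne_top : K ≠ ⊤
  norm : ∀ X : Subgroup L, X ≤ K → X ≠ ⊥ → (∀ φ : MulAut K, ∀ y : K, (y : L) ∈ X → ((φ y : K) : L) ∈ X) →
    ∀ g : L, (∀ x ∈ X, g * x * g⁻¹ ∈ X) → g ∈ K

variable {Q : Type*} [Group Q] [Finite Q] {A : Subgroup Q} {Γ : Subgroup (MulAut Q)}
  {L : Type*} [Group L]

/-- the trace of the stabiliser of `xA` -/
def tr (ι : L →* Q) (A : Subgroup Q) (x : Q) : Subgroup L := (cj x A).comap ι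

omit [Finite Q] in
theorem mem_tr {ι : L →* Q} {x : Q} {l : L} : l ∈ tr ι A x ↔ x⁻¹ * ι l * x ∈ A := by
  rw [tr, mem_comap, mem_cj]

/-- `L` as a `Γ`-invariant subgroup of `A` -/
structure Inv (A : Subgroup Q) (Γ : Subgroup (MulAut Q)) (ι : L →* Q) : Prop where
  inj : Function.Injective ι
  mem : ∀ l, ι l ∈ A
  inv : ∀ σ ∈ Γ, ∀ l, ∃ l', σ (ι l) = ι l'

/-- the automorphism of the trace induced by an element of the stabiliser -/
theorem exists_aut (h : EPT A Γ) {ι : L →* Q} (hi : Inv A Γ ι) {x : Q} {σ : MulAut Q} (hσ : σ ∈ Γ)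
    (hσx : x⁻¹ * σ x ∈ A) : ∃ φ : MulAut (tr ι A x), ∀ y : tr ι A x, σ (ι y) = ι ((φ y : tr ι A x) : L) := by
  have hmem : ∀ l : L, l ∈ tr ι A x → ∀ l', σ (ι l) = ι l' → l' ∈ tr ι A x := by
    intro l hl l' he
    have h1 : ι l ∈ A ⊓ cj x A := ⟨hi.mem l, mem_cj.2 (mem_tr.1 hl)⟩
    have h2 := h.stab_M0 hσ hσx h1
    rw [he] at h2
    exact mem_tr.2 (mem_cj.1 h2.2)
  choose f hf using fun y : tr ι A x => hi.inv σ hσ y
  let g : tr ι A x →* tr ι A x :=
    { toFun := fun y => ⟨f y, hmem y y.2 _ (hf y)⟩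
      map_one' := by
        apply Subtype.ext
        apply hi.inj
        show ι (f 1) = ι 1
        rw [← hf, OneMemClass.coe_one, map_one, map_one]
      map_mul' := by
        intro y z
        apply Subtype.ext
        apply hi.inj
        show ι (f (y * z)) = ι (f y * f z)
        rw [← hf, map_mul, ← hf, ← hf, Subgroup.coe_mul, map_mul, map_mul] }
  have hg : Function.Injective g := by
    intro y z e
    have e1 : f y = f z := Subtype.ext_iff.1 e
    have e2 : σ (ι y) = σ (ι z) := by rw [hf, hf, e1]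
    exact Subtype.ext (hi.inj (σ.injective e2))
  have : Finite L := Finite.of_injective ι hi.inj
  exact ⟨MulEquiv.ofBijective g (Finite.injective_iff_bijective.1 hg), fun y => hf y⟩

/-- `N_A(X) ≤ A^x` for `X ≠ 1` characteristic in the trace -/
theorem norm_tr (h : EPT A Γ) {ι : L →* Q} (hi : Inv A Γ ι) {x : Q} (hx : x ∉ A) {X : Subgroup L} (hX : X ≤ tr ι A x)
    (hne : X ≠ ⊥) (hc : ∀ φ : MulAut (tr ι A x), ∀ y : tr ι A x, (y : L) ∈ X → ((φ y : tr ι A x) : L) ∈ X)
    {a : Q} (ha : a ∈ A) (haX : ∀ y ∈ X, ∃ z ∈ X, a * ι y * a⁻¹ = ι z) : a ∈ cj x A := by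
  rw [← h.conj_stab ha]
  refine h.norm x hx (X.map ι) ?_ ?_ ?_ _ ((h.conj a).2 ha) ?_
  · rintro _ ⟨y, hy, rfl⟩
    exact ⟨hi.mem y, mem_cj.2 (mem_tr.1 (hX hy))⟩
  · rintro σ hσ hσx _ ⟨y, hy, rfl⟩
    obtain ⟨φ, hφ⟩ := exists_aut h hi hσ hσx
    have h1 := hφ ⟨y, hX hy⟩
    exact ⟨_, hc φ ⟨y, hX hy⟩ hy, h1.symm⟩
  · intro e
    rw [Subgroup.map_eq_bot_iff_of_injective _ hi.inj] at e
    exact hne e
  · rintro _ ⟨y, hy, rfl⟩
    obtain ⟨z, hz, e⟩ := haX y hy
    exact ⟨z, hz, e.symm⟩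

theorem adm_tr (h : EPT A Γ) {ι : L →* Q} (hi : Inv A Γ ι) [Nontrivial L] {x : Q} (hx : x ∉ A)
    (hne : tr ι A x ≠ ⊥) : Adm (tr ι A x) where
  ne_bot := hne
  ne_top := by
    intro e
    have h1 : ι.range = ⊥ := by
      refine h.F1 x hx ι.range ?_ ?_ ?_
      · rintro _ ⟨l, rfl⟩
        exact hi.mem l
      · rintro σ hσ _ ⟨l, rfl⟩
        obtain ⟨l', e⟩ := hi.inv σ hσ l
        exact ⟨l', e.symm⟩
      · rintro _ ⟨l, rfl⟩
        have h2 : l ∈ tr ι A x := by rw [e]; exact mem_top l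
        exact mem_cj.2 (mem_tr.1 h2)
    obtain ⟨a, b, hab⟩ := exists_pair_ne L
    apply hab
    apply hi.inj
    have h3 : ∀ l, ι l = 1 := fun l => by
      have : ι l ∈ ι.range := ⟨l, rfl⟩
      rwa [h1, mem_bot] at this
    rw [h3, h3]
  norm := by
    intro X hX hXne hc g hg
    exact mem_tr.2 (mem_cj.1 (norm_tr h hi hx hX hXne hc (hi.mem g) fun y hy => ⟨_, hg y hy, by
      rw [map_mul, map_mul, map_inv]⟩))

/-- the two-point stabilisers are determined by their traces -/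
theorem eq_of_tr (h : EPT A Γ) {ι : L →* Q} (hi : Inv A Γ ι) {x y : Q} (hy : y ∉ A)
    (hne : tr ι A x ≠ ⊥) (e : tr ι A x = tr ι A y) : A ⊓ cj x A ≤ A ⊓ cj y A := by
  intro a ha
  refine ⟨ha.1, ?_⟩
  refine norm_tr h hi hy (X := tr ι A y) le_rfl (by rw [← e]; exact hne) (fun φ z _ => (φ z).2) ha.1 ?_
  intro l hl
  obtain ⟨l', hl'⟩ := hi.inv _ ((h.conj a).2 ha.1) l
  rw [MulAut.conj_apply] at hl'
  refine ⟨l', ?_, hl'⟩
  rw [← e] at hl ⊢
  rw [mem_tr, ← hl']
  have h1 := mem_cj.1 ha.2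
  have h2 := mem_tr.1 hl
  have h3 : x⁻¹ * (a * ι l * a⁻¹) * x = (x⁻¹ * a * x) * (x⁻¹ * ι l * x) * (x⁻¹ * a * x)⁻¹ := by group
  rw [h3]
  exact A.mul_mem (A.mul_mem h1 h2) (A.inv_mem h1)

/-- the number of two-point stabilisers is at most the number of admissible subgroups -/
theorem ncard_le (h : EPT A Γ) {ι : L →* Q} (hi : Inv A Γ ι) [Nontrivial L]
    (hne : ∀ x, x ∉ A → tr ι A x ≠ ⊥) :
    {M : Subgroup Q | ∃ x, x ∉ A ∧ M = A ⊓ cj x A}.ncard ≤ {K : Subgroup L | Adm K}.ncard := by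
  have : Finite L := Finite.of_injective ι hi.inj
  refine Set.ncard_le_ncard_of_injOn (fun M : Subgroup Q => M.comap ι) ?_ ?_ (Set.toFinite _)
  · rintro _ ⟨x, hx, rfl⟩
    have e : (A ⊓ cj x A).comap ι = tr ι A x := by
      ext l
      rw [mem_comap, mem_inf, mem_cj, mem_tr]
      exact and_iff_right (hi.mem l)
    show Adm ((A ⊓ cj x A).comap ι)
    rw [e]
    exact adm_tr h hi hx (hne x hx)
  · rintro _ ⟨x, hx, rfl⟩ _ ⟨y, hy, rfl⟩ e
    have e1 : ∀ z : Q, (A ⊓ cj z A).comap ι = tr ι A z := by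
      intro z
      ext l
      rw [mem_comap, mem_inf, mem_cj, mem_tr]
      exact and_iff_right (hi.mem l)
    have e' : tr ι A x = tr ι A y := by
      rw [← e1, ← e1]
      exact e
    exact le_antisymm (eq_of_tr h hi hy (hne x hx) e') (eq_of_tr h hi hx (hne y hy) e'.symm)

open Classical in
/-- **The weighted count.** -/
theorem weight_bound (h : EPT A Γ) {ι : L →* Q} (hi : Inv A Γ ι) [Nontrivial L] [Fintype L]
    (hne : ∀ x, x ∉ A → tr ι A x ≠ ⊥) (w : L → ℕ) (hw1 : w 1 = 0) {c W m : ℕ}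
    (hc : ∀ K : Subgroup L, Adm K → c ≤ ∑ t : L, if t ∈ K then w t else 0) (hW : ∑ t : L, w t ≤ W)
    (hm : {K : Subgroup L | Adm K}.ncard ≤ m) : (A.index - 1) * c ≤ W * (m - 1) := by
  have hr := (ncard_le h hi hne).trans hm
  set r := {M : Subgroup Q | ∃ x, x ∉ A ∧ M = A ⊓ cj x A}.ncard with hrdef
  have : Fintype (Q ⧸ A) := Fintype.ofFinite _
  let b : Q ⧸ A := ((1 : Q) : Q ⧸ A)
  have hcard : A.index - 1 = (Finset.univ.filter fun p : Q ⧸ A => p ≠ b).card := by
    rw [Finset.filter_ne', Finset.card_erase_of_mem (Finset.mem_univ _), Finset.card_univ, ← Nat.card_eq_fintype_card]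
    rfl
  have hst : ∀ (x : Q) (t : L), ι t • ((x : Q) : Q ⧸ A) = ((x : Q) : Q ⧸ A) ↔ t ∈ tr ι A x := by
    intro x t
    rw [MulAction.Quotient.smul_coe, smul_eq_mul, eq_comm, QuotientGroup.eq, mem_tr, mul_assoc]
  have h1 : (A.index - 1) * c ≤ ∑ p ∈ Finset.univ.filter (fun p : Q ⧸ A => p ≠ b),
      ∑ t : L, if ι t • p = p then w t else 0 := by
    rw [hcard, ← smul_eq_mul, ← Finset.sum_const]
    apply Finset.sum_le_sum
    intro p hp
    obtain ⟨x, rfl⟩ := QuotientGroup.mk_surjective p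
    have hx : x ∉ A := by
      intro hx
      apply (Finset.mem_filter.1 hp).2
      show ((x : Q) : Q ⧸ A) = ((1 : Q) : Q ⧸ A)
      rw [eq_comm, QuotientGroup.eq, inv_one, one_mul]
      exact hx
    refine (hc _ (adm_tr h hi hx (hne x hx))).trans (le_of_eq ?_)
    apply Finset.sum_congr rfl
    intro t _
    exact if_congr (hst x t).symm rfl rfl
  refine h1.trans ?_
  rw [Finset.sum_comm]
  have h2 : ∀ t : L, (∑ p ∈ Finset.univ.filter (fun p : Q ⧸ A => p ≠ b), if ι t • p = p then w t else 0) ≤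
      w t * (m - 1) := by
    intro t
    rcases eq_or_ne t 1 with rfl | ht
    · rw [hw1, zero_mul]
      refine le_of_eq (Finset.sum_eq_zero fun p _ => ?_)
      rw [ite_self]
    · rw [← Finset.sum_filter, Finset.sum_const, smul_eq_mul, mul_comm]
      apply Nat.mul_le_mul_left
      have h3 := h.fix_le (ι t) (fun e => ht (hi.inj (by rw [e, map_one])))
      rw [← hrdef] at h3
      have h4 : ((Finset.univ.filter fun p : Q ⧸ A => p ≠ b).filter fun p => ι t • p = p) =
          (Finset.univ.filter fun p : Q ⧸ A => ι t • p = p).erase b := by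
        ext p
        rw [Finset.mem_filter, Finset.mem_filter, Finset.mem_erase, Finset.mem_filter]
        tauto
      have h5 : b ∈ Finset.univ.filter fun p : Q ⧸ A => ι t • p = p := by
        rw [Finset.mem_filter]
        refine ⟨Finset.mem_univ _, ?_⟩
        rw [hst, mem_tr, inv_one, one_mul, mul_one]
        exact hi.mem t
      rw [h4, Finset.card_erase_of_mem h5]
      apply Nat.sub_le_sub_right
      refine le_trans ?_ (h3.trans hr)
      rw [← Set.ncard_coe_finset]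
      refine le_of_eq (congrArg _ ?_)
      ext p
      simp
  refine (Finset.sum_le_sum fun t _ => h2 t).trans ?_
  rw [← Finset.sum_mul]
  exact Nat.mul_le_mul_right _ hW

end Cfsg.Agent.H417.EP
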